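import Groth.Prelude.Def_LocCohZ
import Groth.Prelude.Def_CxOX
import Groth.Agent.Lib.Helper33.LocCohLES
import Groth.Agent.Lib.Helper33.DeltaPrecomp
import Groth.Agent.Lib.Helper32.ExtZeroMono
import Groth.Agent.Lib.Helper32.OpenKInj
import Groth.Agent.Lib.Helper49.QCohLocal
import Groth.Agent.Lib.Helper49.QcqsModules
import Groth.Agent.S0030
import Groth.Agent.Lib.Helper83.ModCoh

/-!
# Local cohomology sheaves of quasi-coherent modules are quasi-coherent (helper56)

For a quasi-compact open immersion `j : U ⟶ Y` and `M` quasi-coherent, `ℋ^q_Z(M)` is quasi-coherent: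
`ℋ^0_Z(M) = ker (M ⟶ j_* j^* M)`, `ℋ^1_Z(M) = coker (M ⟶ j_* j^* M)` and
`ℋ^{q+2}_Z(M) = R^{q+1} j_* (j^* M)`.
-/

set_option autoImplicit false
set_option linter.style.haveILetI false
universe u
open CategoryTheory CategoryTheory.Limits AlgebraicGeometry Opposite TopologicalSpace

namespace Groth.Agent.Lib.Helper56.HZshQCoh

open Scheme.Modules Groth.Agent.Lib.Helper33.FunctorLES Groth.Agent.Lib.Helper32.MVOpens

section LeftExact

variable {U X : Scheme.{u}} (j : U ⟶ X) [IsOpenImmersion j]

/-- the universal property of `Γ_Z(F) ⟶ F`. -/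
noncomputable def gammaZLift {A F : X.Modules} (f : A ⟶ F)
    (hf : f ≫ (restrictAdjunction j).unit.app F = 0) : A ⟶ (DCoh.gammaZ j).obj F :=
  kernel.lift _ f hf

@[reassoc (attr := simp)]
lemma gammaZLift_ι {A F : X.Modules} (f : A ⟶ F)
    (hf : f ≫ (restrictAdjunction j).unit.app F = 0) :
    gammaZLift j f hf ≫ (CxOX.gammaZι j).app F = f :=
  kernel.lift_ι _ _ _

instance (F : X.Modules) : Mono ((CxOX.gammaZι j).app F) :=
  inferInstanceAs (Mono (kernel.ι _))

@[reassoc]
lemma gammaZι_unit (F : X.Modules) :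
    (CxOX.gammaZι j).app F ≫ (restrictAdjunction j).unit.app F = 0 :=
  kernel.condition _

/-- `j_* j^*` is left exact. -/
theorem preservesFiniteLimits_T : PreservesFiniteLimits (restrictFunctor j ⋙ pushforward j) := by
  have h1 : PreservesLimitsOfSize.{0, 0} (restrictFunctor j) :=
    (CxOX.extZeroAdj j).rightAdjoint_preservesLimits
  have h2 : PreservesLimitsOfSize.{0, 0} (pushforward j) :=
    (restrictAdjunction j).rightAdjoint_preservesLimits
  have h1' : PreservesFiniteLimits (restrictFunctor j) :=
    PreservesLimitsOfSize.preservesFiniteLimits _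
  have h2' : PreservesFiniteLimits (pushforward j) :=
    PreservesLimitsOfSize.preservesFiniteLimits _
  exact comp_preservesFiniteLimits _ _

/-- `Γ_Z` is left exact. -/
theorem preservesFiniteLimits_gammaZ : PreservesFiniteLimits (DCoh.gammaZ j) := by
  have hT := preservesFiniteLimits_T j
  refine ((DCoh.gammaZ j).preservesFiniteLimits_tfae.out 1 3).mp ?_
  rintro S ⟨hS, hf⟩
  have hnat : ∀ {A B : X.Modules} (φ : A ⟶ B),
      (DCoh.gammaZ j).map φ ≫ (CxOX.gammaZι j).app B = (CxOX.gammaZι j).app A ≫ φ :=
    fun φ => (CxOX.gammaZι j).naturality φ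
  have hmono : Mono ((DCoh.gammaZ j).map S.f) := by
    have : Mono ((DCoh.gammaZ j).map S.f ≫ (CxOX.gammaZι j).app S.X₂) := by
      rw [hnat]
      infer_instance
    exact mono_of_mono _ ((CxOX.gammaZι j).app S.X₂)
  refine ⟨?_, hmono⟩
  have hTf : Mono ((restrictFunctor j ⋙ pushforward j).map S.f) := inferInstance
  refine ShortComplex.exact_of_f_is_kernel _ ?_
  refine KernelFork.IsLimit.ofι' ((DCoh.gammaZ j).map S.f) _ (fun {A} k hk => ?_)
  -- `k : A ⟶ Γ_Z(S.X₂)` killed by `Γ_Z(S.g)`
  have h1 : (k ≫ (CxOX.gammaZι j).app S.X₂) ≫ S.g = 0 := by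
    have hk' : k ≫ (DCoh.gammaZ j).map S.g = 0 := hk
    rw [Category.assoc, ← hnat, ← Category.assoc, hk', zero_comp]
  let y : A ⟶ S.X₁ := hS.lift (k ≫ (CxOX.gammaZι j).app S.X₂) h1
  have hy : y ≫ S.f = k ≫ (CxOX.gammaZι j).app S.X₂ := hS.lift_f _ _
  have h2 : y ≫ (restrictAdjunction j).unit.app S.X₁ = 0 := by
    rw [← cancel_mono ((restrictFunctor j ⋙ pushforward j).map S.f), Category.assoc, zero_comp]
    have := (restrictAdjunction j).unit.naturality S.f
    simp only [Functor.id_obj, Functor.id_map] at this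
    rw [← this, ← Category.assoc, hy, Category.assoc, gammaZι_unit, comp_zero]
  refine ⟨gammaZLift j y h2, ?_⟩
  rw [← cancel_mono ((CxOX.gammaZι j).app S.X₂)]
  rw [Category.assoc, hnat, gammaZLift_ι_assoc, hy]

end LeftExact

section Opens

variable {X : Scheme.{u}} (W : X.Opens)

lemma w : CxOX.gammaZι W.ι ≫ η W = 0 := by
  ext F : 2
  exact gammaZι_unit W.ι F

theorem exactOnInjectives : ExactOnInjectives (CxOX.gammaZι W.ι) (η W) (w W) := by
  intro I hI
  haveI := hI
  have hepi : Epi ((η W).app I) := Groth.Agent.Lib.Helper32.ExtZeroMono.epi_η_of_injective W I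
  exact ShortComplex.ShortExact.mk'
    (ShortComplex.exact_of_f_is_kernel _ (kernelIsKernel ((restrictAdjunction W.ι).unit.app I)))
    (inferInstanceAs (Mono (kernel.ι _))) hepi

theorem preservesInjectiveObjects_restrict : (restrictFunctor W.ι).PreservesInjectiveObjects := by
  haveI := Groth.Agent.Lib.Helper32.OpenKInj.preservesFiniteLimits_extZero W
  haveI : (CxOX.extZero W.ι).PreservesMonomorphisms := inferInstance
  exact Functor.preservesInjectiveObjects_of_adjunction_of_preservesMonomorphisms
    (CxOX.extZeroAdj W.ι)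

instance enoughInjectives_modules (Y : Scheme.{u}) : EnoughInjectives Y.Modules :=
  inferInstanceAs (EnoughInjectives (SheafOfModules.{u} Y.ringCatSheaf))

/-- `ℋ^q_Z(M)` is quasi-coherent for `Z` the complement of a quasi-compact open `W`. -/
theorem isQuasicoherent_rightDerived_gammaZ [QuasiCompact W.ι] [HasInjectiveResolutions X.Modules]
    (M : X.Modules) (hM : M.IsQuasicoherent) (q : ℕ) :
    (((DCoh.gammaZ W.ι).rightDerived q).obj M).IsQuasicoherent := by
  haveI := hM
  have hT : PreservesFiniteLimits (T W) := preservesFiniteLimits_T W.ι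
  have hNq : ((T W).obj M).IsQuasicoherent :=
    Groth.Agent.Lib.Helper49.isQuasicoherent_pushforward _ W.ι
  have hE := exactOnInjectives W
  match q with
  | 0 =>
    haveI := preservesFiniteLimits_gammaZ W.ι
    have e : ((DCoh.gammaZ W.ι).rightDerived 0).obj M ≅ (DCoh.gammaZ W.ι).obj M :=
      (DCoh.gammaZ W.ι).rightDerivedZeroIsoSelf.app M
    have hk : ((DCoh.gammaZ W.ι).obj M).IsQuasicoherent :=
      Groth.Agent.Lib.Helper49.isQuasicoherent_kernel
        ((restrictAdjunction W.ι).unit.app M) hM hNq
    exact Groth.Agent.Lib.Helper49.isQuasicoherent_of_iso e.symm hk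
  | 1 =>
    have h1 : IsZero (((𝟭 X.Modules).rightDerived 1).obj M) := isZero_rightDerived_id_succ 0 M
    have hepi : Epi ((ρ hE).app M) := epi_ρ_app hE M h1
    have hcolim := (exact_β_ρ_app hE M).gIsCokernel
    have e : cokernel ((η W).app M) ≅ ((DCoh.gammaZ W.ι).rightDerived 1).obj M :=
      IsColimit.coconePointUniqueUpToIso (cokernelIsCokernel ((η W).app M)) hcolim
    have hc : (cokernel ((η W).app M)).IsQuasicoherent :=
      Groth.Agent.Lib.Helper49.isQuasicoherent_cokernel ((η W).app M) hM hNq
    exact Groth.Agent.Lib.Helper49.isQuasicoherent_of_iso e hc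
  | q + 2 =>
    obtain ⟨e1⟩ := nonempty_iso_of_isZero hE (q + 1)
      (fun F => isZero_rightDerived_id_succ q F)
      (fun F => isZero_rightDerived_id_succ (q + 1) F)
    haveI : (restrictFunctor W.ι).PreservesInjectiveObjects := preservesInjectiveObjects_restrict W
    haveI : PreservesFiniteLimits (restrictFunctor W.ι) := by
      have : PreservesLimitsOfSize.{0, 0} (restrictFunctor W.ι) :=
        (CxOX.extZeroAdj W.ι).rightAdjoint_preservesLimits
      exact PreservesLimitsOfSize.preservesFiniteLimits _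
    haveI : PreservesFiniteColimits (restrictFunctor W.ι) := by
      have : PreservesColimitsOfSize.{0, 0} (restrictFunctor W.ι) :=
        (restrictAdjunction W.ι).leftAdjoint_preservesColimits
      exact PreservesColimitsOfSize.preservesFiniteColimits _
    haveI : PreservesFiniteLimits (pushforward W.ι) := by
      have : PreservesLimitsOfSize.{0, 0} (pushforward W.ι) :=
        (restrictAdjunction W.ι).rightAdjoint_preservesLimits
      exact PreservesLimitsOfSize.preservesFiniteLimits _
    obtain ⟨e2⟩ := Groth.Agent.Lib.Helper33.ExtDelta.nonempty_rightDerived_exact_comp_iso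
      (restrictFunctor W.ι) (pushforward W.ι) (q + 1)
    have e : ((DCoh.gammaZ W.ι).rightDerived (q + 2)).obj M ≅
        ((pushforward W.ι).rightDerived (q + 1)).obj ((restrictFunctor W.ι).obj M) :=
      (e1.symm ≪≫ e2).app M
    haveI : Coh.IsQCoh ((restrictFunctor W.ι).obj M) :=
      Scheme.Modules.isQuasicoherent_restrictFunctor _ _
    have hR : Coh.IsQCoh ((Coh.Rpush W.ι (q + 1)).obj ((restrictFunctor W.ι).obj M)) :=
      Groth.Agent.S0030.result W.ι ((restrictFunctor W.ι).obj M) (q + 1)
    exact Groth.Agent.Lib.Helper49.isQuasicoherent_of_iso e.symm hR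

end Opens

section General

variable {U X : Scheme.{u}} (j : U ⟶ X) [IsOpenImmersion j]

open Groth.Agent.Lib.Helper32.ExtZeroMono in
lemma gammaZIsoOpensRange_hom_ι (I : X.Modules) :
    (gammaZIsoOpensRange j I).hom ≫ (CxOX.gammaZι j.opensRange.ι).app I =
      (CxOX.gammaZι j).app I :=
  kernel.lift_ι _ _ _

open Groth.Agent.Lib.Helper32.ExtZeroMono in
/-- `Γ_Z` only depends on the range of `j`. -/
noncomputable def gammaZNatIso : DCoh.gammaZ j ≅ DCoh.gammaZ j.opensRange.ι :=
  NatIso.ofComponents (fun I => gammaZIsoOpensRange j I) (by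
    intro A B φ
    rw [← cancel_mono ((CxOX.gammaZι j.opensRange.ι).app B), Category.assoc, Category.assoc,
      gammaZIsoOpensRange_hom_ι]
    have h1 := (CxOX.gammaZι j.opensRange.ι).naturality φ
    have h2 := (CxOX.gammaZι j).naturality φ
    simp only [Functor.id_obj, Functor.id_map] at h1 h2
    rw [h1, h2, ← Category.assoc, gammaZIsoOpensRange_hom_ι])

/-- **Local cohomology sheaves of a quasi-coherent module along the complement of a quasi-compact
open immersion are quasi-coherent.** -/
theorem isQuasicoherent_HZshM [QuasiCompact j] [HasInjectiveResolutions X.Modules]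
    (M : X.Modules) (hM : M.IsQuasicoherent) (q : ℕ) :
    ((LocCohZ.HZshM j q).obj M).IsQuasicoherent := by
  haveI : QuasiCompact j.opensRange.ι := by
    have h : j.opensRange.ι = j.isoOpensRange.inv ≫ j := (j.isoOpensRange_inv_comp).symm
    rw [h]
    infer_instance
  have e : (DCoh.gammaZ j).rightDerived q ≅ (DCoh.gammaZ j.opensRange.ι).rightDerived q :=
    { hom := NatTrans.rightDerived (gammaZNatIso j).hom q
      inv := NatTrans.rightDerived (gammaZNatIso j).inv q
      hom_inv_id := by
        rw [← NatTrans.rightDerived_comp, Iso.hom_inv_id, NatTrans.rightDerived_id]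
      inv_hom_id := by
        rw [← NatTrans.rightDerived_comp, Iso.inv_hom_id, NatTrans.rightDerived_id] }
  exact Groth.Agent.Lib.Helper49.isQuasicoherent_of_iso (e.app M).symm
    (isQuasicoherent_rightDerived_gammaZ j.opensRange M hM q)

end General

end Groth.Agent.Lib.Helper56.HZshQCoh
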