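import Mathlib
import Groth.Prelude.Def_MoreMor
import Groth.Agent.Lib.Helper18.ThickAffine

/-!
# Geometry of affine stratifications (helper56)

* `isAffineOpen_of_range_eq`: an open `U` which is the range of an affine immersion from an affine
  scheme is an affine open and its inclusion is an affine morphism.
* `hasAffineStratification_of_isClosedImmersion`: a closed subscheme lying in the union of the lower
  strata inherits an affine stratification of smaller length.
-/

set_option autoImplicit false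
universe u
open CategoryTheory CategoryTheory.Limits AlgebraicGeometry TopologicalSpace Opposite

namespace Groth.Agent.Lib.Helper56.AffStratGeom

variable {X : Scheme.{u}}

/-- An immersion onto an open subset factors through the open subscheme as a surjective closed
immersion. -/
theorem exists_lift_of_range_eq {Z : Scheme.{u}} (ι : Z ⟶ X) [IsImmersion ι] (U : X.Opens)
    (hU : Set.range ι = (U : Set X)) :
    ∃ g : Z ⟶ (U : Scheme.{u}), g ≫ U.ι = ι ∧ IsClosedImmersion g ∧ Function.Surjective g := by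
  have hle : Set.range ι ⊆ Set.range U.ι := by
    rw [hU, Scheme.Opens.range_ι]
  let g : Z ⟶ (U : Scheme.{u}) := IsOpenImmersion.lift U.ι ι hle
  have hg : g ≫ U.ι = ι := IsOpenImmersion.lift_fac _ _ _
  have hsurj : Function.Surjective g := by
    intro y
    have hy : (U.ι y : X) ∈ Set.range ι := by
      rw [hU]; exact y.2
    obtain ⟨z, hz⟩ := hy
    refine ⟨z, ?_⟩
    apply U.ι.isEmbedding.injective
    rw [← hz, ← hg]
    rfl
  have himm : IsImmersion (g ≫ U.ι) := by rw [hg]; infer_instance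
  have hpre : IsPreimmersion g := by
    have : IsPreimmersion (g ≫ U.ι) := inferInstance
    exact .of_comp g U.ι
  refine ⟨g, hg, ?_, hsurj⟩
  refine IsClosedImmersion.of_isPreimmersion g ?_
  rw [hsurj.range_eq]
  exact isClosed_univ

theorem isAffineOpen_of_range_eq {Z : Scheme.{u}} (ι : Z ⟶ X) [IsImmersion ι] [IsAffine Z]
    (U : X.Opens) (hU : Set.range ι = (U : Set X)) : IsAffineOpen U := by
  obtain ⟨g, -, hg1, hg2⟩ := exists_lift_of_range_eq ι U hU
  exact Groth.Agent.Lib.Helper18.ThickAffine.isAffine_of_isClosedImmersion_of_surjective g hg2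

theorem isAffineHom_ι_of_range_eq {Z : Scheme.{u}} (ι : Z ⟶ X) [IsImmersion ι] [IsAffineHom ι]
    (U : X.Opens) (hU : Set.range ι = (U : Set X)) : IsAffineHom U.ι := by
  obtain ⟨g, hg, hg1, hg2⟩ := exists_lift_of_range_eq ι U hU
  rw [isAffineHom_iff]
  intro V hV
  have h1 : IsAffineOpen (ι ⁻¹ᵁ V) := hV.preimage ι
  have h2 : g ⁻¹ᵁ (U.ι ⁻¹ᵁ V) = ι ⁻¹ᵁ V := by
    rw [← Scheme.Hom.comp_preimage, hg]
  have h3 : IsAffine (↑(g ⁻¹ᵁ (U.ι ⁻¹ᵁ V)) : Scheme.{u}) := by
    rw [h2]; exact h1
  have h4 : IsClosedImmersion (g ∣_ (U.ι ⁻¹ᵁ V)) := inferInstance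
  have h5 : Function.Surjective (g ∣_ (U.ι ⁻¹ᵁ V)) := by
    intro y
    obtain ⟨z, hz⟩ := hg2 y.1
    have hzmem : z ∈ g ⁻¹ᵁ (U.ι ⁻¹ᵁ V) := by
      change g z ∈ U.ι ⁻¹ᵁ V
      rw [hz]; exact y.2
    refine ⟨⟨z, hzmem⟩, ?_⟩
    apply Subtype.ext
    rw [morphismRestrict_base_coe]
    exact hz
  exact Groth.Agent.Lib.Helper18.ThickAffine.isAffine_of_isClosedImmersion_of_surjective
    (g ∣_ (U.ι ⁻¹ᵁ V)) h5

/-- An affine stratification of `X` of length `n + 1` induces one of length `n` on any scheme affine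
over `X` whose image avoids the top stratum. -/
theorem hasAffineStratification_of_isAffineHom {n : ℕ} {W' : Scheme.{u}} (i : W' ⟶ X)
    [IsAffineHom i] (s : X → Fin (n + 2)) (hs : ∀ k : Fin (n + 2), IsClosed {x : X | s x ≤ k})
    (hstrata : ∀ k : Fin (n + 2), ∃ (Z : Scheme.{u}) (ι : Z ⟶ X),
      IsImmersion ι ∧ IsAffine Z ∧ IsAffineHom ι ∧ Set.range ι = {x : X | s x = k})
    (hi : ∀ w : W', s (i w) ≠ Fin.last (n + 1)) :
    MoreMor.HasAffineStratification W' n := by
  refine ⟨fun w => (s (i w)).castPred (hi w), fun k => ?_, fun k => ?_⟩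
  · have h1 : {w : W' | (s (i w)).castPred (hi w) ≤ k} = i ⁻¹' {x : X | s x ≤ k.castSucc} := by
      ext w
      simp only [Set.mem_ofPred_eq, Set.mem_preimage, Fin.le_def, Fin.coe_castPred,
        Fin.val_castSucc]
    rw [h1]
    exact (hs k.castSucc).preimage i.continuous
  · obtain ⟨Z, ι, h1, h2, h3, h4⟩ := hstrata k.castSucc
    have haff : IsAffineHom (pullback.snd ι i) :=
      MorphismProperty.pullback_snd (P := @IsAffineHom) ι i h3
    refine ⟨pullback ι i, pullback.snd ι i, inferInstance, ?_, haff, ?_⟩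
    · have : IsAffineHom (pullback.fst ι i) := inferInstance
      exact isAffine_of_isAffineHom (pullback.fst ι i)
    · rw [Scheme.Pullback.range_snd, h4]
      ext w
      simp only [Set.mem_ofPred_eq, Set.mem_preimage, Fin.ext_iff, Fin.coe_castPred,
        Fin.val_castSucc]

end Groth.Agent.Lib.Helper56.AffStratGeom
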