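import Groth.Prelude.Def_Coh
import Groth.Prelude.Def_MoreMor
import Groth.Agent.Lib.Helper18.FPColim
import Groth.Agent.Lib.Helper4.ColimCohQS
import Groth.Agent.Lib.Helper1.ShCohTop
import Groth.Agent.Lib.Helper30.ModSAFT
import Groth.Agent.Lib.Helper80.RefExtend
import Groth.Agent.Lib.Helper80.SubQCoh
import Groth.Agent.Lib.Helper67.AffPushLin
import Groth.Agent.Lib.Helper45.Dev.IdealMul
import Groth.Agent.Lib.Helper45.Dev.SerreVanish
import Groth.Agent.Lib.Helper49.AnnIdealSheaf
import Groth.Agent.Lib.Helper49.FiniteTypeLocal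
import Groth.Agent.Lib.Helper49.SupportSplit2
import Groth.Agent.Lib.Helper49.ZClosure2
import Groth.Agent.Lib.Helper38.HHChase
import Groth.Agent.Lib.Helper38.ImageSES
import Groth.Agent.Lib.Helper22.AffStrat
import Groth.Agent.Lib.Helper56.AffStratGeom
import Groth.Agent.S0007

/-!
# Cohomology vanishes above the affine stratification number (helper56)
-/

set_option autoImplicit false
set_option linter.style.haveILetI false
universe u
open CategoryTheory CategoryTheory.Limits AlgebraicGeometry Opposite TopologicalSpace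

namespace Groth.Agent.Lib.Helper56.AffStratCoh

open Groth.Agent.Lib.Helper49

/-- If every leg of a filtered colimit cocone factors through an object with vanishing `H^i`, then
`H^i` of the colimit vanishes (qcqs schemes). -/
theorem subsingleton_HH_of_colimit_factor (X : Scheme.{u}) [CompactSpace X]
    [QuasiSeparatedSpace X] (i : ℕ)
    {J : Type u} [SmallCategory J] [IsFiltered J] (D : J ⥤ X.Modules) (c : Cocone D)
    (hc : IsColimit c)
    (h : ∀ j, ∃ (E : X.Modules) (π : D.obj j ⟶ E) (ι : E ⟶ c.pt), π ≫ ι = c.ι.app j ∧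
      Subsingleton (Coh.HH X E i)) :
    Subsingleton (Coh.HH X c.pt i) := by
  haveI : PrespectralSpace X.toTopCat := inferInstanceAs (PrespectralSpace X)
  let T := SheafOfModules.toSheaf.{u} X.ringCatSheaf
  let Hq := (Sheaf.cohomologyPresheafFunctor (Opens.grothendieckTopology X.toTopCat) i).flip.obj
    (op (⊤ : Opens X.toTopCat))
  have h1 : IsColimit (T.mapCocone c) := isColimitOfPreserves T hc
  have hP : PreservesColimit (D ⋙ T) Hq :=
    Groth.Agent.Lib.Helper4.ColimCohQS.preservesColimit_cohomology_of_isQuasiSeparated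
      (X := X.toTopCat) ⊤ (by
        have : QuasiSeparatedSpace X := inferInstance
        exact (isQuasiSeparated_univ_iff.mpr this)) ⊤ (by
        have : CompactSpace X := inferInstance
        exact (isCompact_univ (X := X))) le_rfl i J (D ⋙ T)
  have h2 : IsColimit (Hq.mapCocone (T.mapCocone c)) :=
    (hP.preserves h1).some
  have h3 : IsZero (Hq.mapCocone (T.mapCocone c)).pt := by
    rw [IsZero.iff_id_eq_zero]
    refine h2.hom_ext fun j => ?_
    obtain ⟨E, π, ι, hπι, hE⟩ := h j
    have e := Groth.Agent.Lib.Helper1.HUTopEquivH (X := X.toTopCat) (T.obj E) i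
    have hs : Subsingleton (CohTop.HU (T.obj E) i ⊤) :=
      e.toEquiv.subsingleton_congr.mpr hE
    have hz : IsZero (Hq.obj (T.obj E)) := @AddCommGrpCat.isZero_of_subsingleton _ hs
    have hfac : (Hq.mapCocone (T.mapCocone c)).ι.app j =
        Hq.map (T.map π) ≫ Hq.map (T.map ι) := by
      have h5 : T.map π ≫ T.map ι = T.map (c.ι.app j) := by
        rw [← hπι]
        exact (T.map_comp π ι).symm
      rw [← Functor.map_comp, h5]
      rfl
    rw [Category.comp_id, comp_zero, hfac, hz.eq_of_tgt (Hq.map (T.map π)) 0, zero_comp]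
  have e := Groth.Agent.Lib.Helper1.HUTopEquivH (X := X.toTopCat) (T.obj c.pt) i
  have hs : Subsingleton (CohTop.HU (T.obj c.pt) i ⊤) := AddCommGrpCat.subsingleton_of_isZero h3
  exact e.symm.toEquiv.subsingleton_congr.mpr hs

/-- A quasi-coherent module of finite type whose stalks vanish off `W` is pushed forward from the
closed subscheme cut out by its annihilator, which lies in `W`; so its cohomology vanishes if that
of all closed subschemes inside `W` does. -/
theorem subsingleton_HH_of_support_ft {X : Scheme.{u}} (W : Set X) (p : ℕ)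
    (IH : ∀ J : X.IdealSheafData, (J.support : Set X) ⊆ W → ∀ N : J.subscheme.Modules,
      N.IsQuasicoherent → Subsingleton (Coh.HH J.subscheme N p))
    (E : X.Modules) (hE : E.IsQuasicoherent)
    (hft : SheafOfModules.IsFiniteType (R := X.ringCatSheaf) E)
    (hsupp : ∀ x : X, x ∉ W → Subsingleton ↑(E.presheaf.stalk x)) :
    Subsingleton (Coh.HH X E p) := by
  haveI := hE
  let J : X.IdealSheafData := AnnIdealSheaf.annIdealSheaf E hft
  have hJ : (J.support : Set X) ⊆ W := by
    intro x hx
    rw [AnnIdealSheaf.coe_support_annIdealSheaf] at hx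
    by_contra hxW
    exact hx (hsupp x hxW)
  have hk : ClSub.KilledByIdeal J E := by
    intro U a ha m
    exact Module.mem_annihilator.mp ha m
  have hiso := Groth.Agent.Lib.Helper45.IdealMul.isIso_unit_of_killedByIdeal J E hft hk
  let i := J.subschemeι
  let N : J.subscheme.Modules := (Scheme.Modules.pullback i).obj E
  have hN : N.IsQuasicoherent := Groth.Agent.Lib.Helper16.FlatPull.isQuasicoherent_pullback i E
  have h1 : Subsingleton (Coh.HH J.subscheme N p) := IH J hJ N hN
  have h2 : Subsingleton (Coh.HH X ((Scheme.Modules.pushforward i).obj N) p) :=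
    (Groth.Agent.Lib.Helper67.AffPush.pushEdge_bijective i N p).injective.subsingleton
  let η := (Scheme.Modules.pullbackPushforwardAdjunction i).unit.app E
  exact Groth.Agent.Lib.Helper45.SerreVanish.subsingleton_HH_of_retract η (inv η)
    (IsIso.hom_inv_id η) p h2

/-- Quasi-coherent modules with stalks vanishing off `W` on a qcqs scheme have vanishing `H^p` if
all quasi-coherent modules on closed subschemes inside `W` do. -/
theorem subsingleton_HH_of_support {X : Scheme.{u}} [CompactSpace X] [QuasiSeparatedSpace X]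
    (W : Set X) (p : ℕ)
    (IH : ∀ J : X.IdealSheafData, (J.support : Set X) ⊆ W → ∀ N : J.subscheme.Modules,
      N.IsQuasicoherent → Subsingleton (Coh.HH J.subscheme N p))
    (G : X.Modules) (hG : G.IsQuasicoherent)
    (hsupp : ∀ x : X, x ∉ W → Subsingleton ↑(G.presheaf.stalk x)) :
    Subsingleton (Coh.HH X G p) := by
  haveI := hG
  obtain ⟨J, _, hdir, hne, D, c, ⟨hc⟩, rfl, hfp⟩ :=
    Groth.Agent.Lib.Helper18.FPM.exists_filtered_fp_colimit G
  haveI : IsFiltered J := isFiltered_of_directed_le_nonempty J
  refine subsingleton_HH_of_colimit_factor X p D c hc fun j => ?_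
  obtain ⟨E, π, ι, hπι, hπ, hι⟩ : ∃ (E : X.Modules) (π : D.obj j ⟶ E) (ι : E ⟶ c.pt),
      π ≫ ι = c.ι.app j ∧ Epi π ∧ Mono ι :=
    ⟨Abelian.image (c.ι.app j), Abelian.factorThruImage _, Abelian.image.ι _,
      Abelian.image.fac _, inferInstance, inferInstance⟩
  refine ⟨E, π, ι, hπι, ?_⟩
  have hDq : (D.obj j).IsQuasicoherent :=
    Groth.Agent.Lib.Helper49.isQuasicoherent_of_isFinitePresentation _ (hfp j)
  have hEq : E.IsQuasicoherent :=
    Groth.Agent.Lib.Helper80.SubQCoh.isQuasicoherent_of_epi_mono π ι hDq hG
  have hEft : SheafOfModules.IsFiniteType (R := X.ringCatSheaf) E :=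
    isFiniteType_of_epi π
      (Groth.Agent.Lib.Helper80.RefExtend.isFiniteType_of_isFinitePresentation _ (hfp j))
  refine subsingleton_HH_of_support_ft W p IH E hEq hEft fun x hx => ?_
  have := hsupp x hx
  exact (stalkMap_injective_of_mono ι x).subsingleton

/-- The cokernel of `M ⟶ j_*(M|_U)` has zero stalks on `U`. -/
theorem subsingleton_stalk_cokernel_toPushRestrict {X : Scheme.{u}} (M : X.Modules) (U : X.Opens)
    (x : X) (hxU : x ∈ U) :
    Subsingleton ↑((cokernel (toPushRestrict M U)).presheaf.stalk x) := by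
  set η := toPushRestrict M U
  refine ⟨fun a b => ?_⟩
  have key : ∀ a : ↑((cokernel η).presheaf.stalk x), a = 0 := by
    intro a
    obtain ⟨b, rfl⟩ := stalkMap_surjective_of_epi (cokernel.π η) x a
    obtain ⟨m, rfl⟩ := stalkMap_toPushRestrict_surjective M U x hxU b
    have h1 := stalkMap_comp η (cokernel.π η) x
    rw [cokernel.condition] at h1
    have h2 := congrArg (fun φ => φ.hom m) h1
    simp only [AddCommGrpCat.hom_comp] at h2
    rw [stalkMap_zero] at h2
    exact h2.symm
  rw [key a, key b]

/-- **Cohomology vanishes above the affine stratification number** (Stacks 0F2S). -/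
theorem subsingleton_HH_of_hasAffineStratification : ∀ (n : ℕ) (X : Scheme.{u}),
    MoreMor.HasAffineStratification X n → ∀ F : X.Modules, F.IsQuasicoherent →
      ∀ p : ℕ, n < p → Subsingleton (Coh.HH X F p) := by
  intro n
  induction n with
  | zero =>
    intro X hX F hF p hp
    obtain ⟨s, -, hstrata⟩ := hX
    obtain ⟨Z, ι, h1, h2, h3, h4⟩ := hstrata 0
    have hrange : Set.range ι = ((⊤ : X.Opens) : Set X) := by
      rw [h4]
      ext x
      simp only [Set.mem_ofPred_eq, Opens.coe_top, Set.mem_univ, iff_true]
      exact Fin.ext (by have := (s x).2; omega)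
    have haff : IsAffineOpen (⊤ : X.Opens) := AffStratGeom.isAffineOpen_of_range_eq ι ⊤ hrange
    haveI : IsAffine X := by
      have : IsAffine (↑(⊤ : X.Opens) : Scheme.{u}) := haff
      exact IsAffine.of_isIso (X.topIso.inv)
    haveI : Coh.IsQCoh F := hF
    exact Groth.Agent.S0007.result X F p hp
  | succ n ih =>
    intro X hX F hF p hp
    haveI : CompactSpace X :=
      Groth.Agent.Lib.Helper22.AffStrat.compactSpace_of_hasAffineStratification hX
    haveI : QuasiSeparatedSpace X :=
      Groth.Agent.Lib.Helper22.AffStrat.quasiSeparatedSpace_of_hasAffineStratification hX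
    obtain ⟨s, hs, hstrata⟩ := hX
    let kW : Fin (n + 2) := Fin.castSucc (Fin.last n)
    let W : Set X := {x : X | s x ≤ kW}
    have hWclosed : IsClosed W := hs kW
    let U : X.Opens := ⟨Wᶜ, hWclosed.isOpen_compl⟩
    have hW_iff : ∀ x : X, x ∈ W ↔ s x ≠ Fin.last (n + 1) := by
      intro x
      simp only [W, kW, Set.mem_ofPred_eq, Fin.le_def, Fin.val_castSucc, Fin.val_last, ne_eq,
        Fin.ext_iff]
      have := (s x).2
      omega
    have hU_iff : ∀ x : X, x ∈ U ↔ x ∉ W := fun x => Iff.rfl
    obtain ⟨Z, ι, h1, h2, h3, h4⟩ := hstrata (Fin.last (n + 1))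
    have hrange : Set.range ι = (U : Set X) := by
      rw [h4]
      ext x
      change s x = Fin.last (n + 1) ↔ x ∉ W
      rw [hW_iff]
      exact not_not.symm
    have hUaff : IsAffineOpen U := AffStratGeom.isAffineOpen_of_range_eq ι U hrange
    haveI hιaff : IsAffineHom U.ι := AffStratGeom.isAffineHom_ι_of_range_eq ι U hrange
    -- vanishing for modules supported on `W`
    have key : ∀ (G : X.Modules), G.IsQuasicoherent →
        (∀ x : X, x ∈ U → Subsingleton ↑(G.presheaf.stalk x)) → ∀ q : ℕ, n < q →
          Subsingleton (Coh.HH X G q) := by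
      intro G hG hsupp q hq
      refine subsingleton_HH_of_support W q ?_ G hG fun x hx => hsupp x hx
      intro J hJ N hN
      have hstr : MoreMor.HasAffineStratification J.subscheme n := by
        refine AffStratGeom.hasAffineStratification_of_isAffineHom J.subschemeι s hs hstrata ?_
        intro w
        rw [← hW_iff]
        apply hJ
        rw [← J.range_subschemeι]
        exact ⟨w, rfl⟩
      exact ih J.subscheme hstr N hN q hq
    -- the sequence `0 → K → F → j_* j^* F → Q → 0`
    haveI := hF
    set η := toPushRestrict F U with hη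
    have hNq : ((Scheme.Modules.pushforward U.ι).obj (F.restrict U.ι)).IsQuasicoherent :=
      isQuasicoherent_pushforward _ U.ι
    have hKq : (kernel η).IsQuasicoherent := isQuasicoherent_kernel η hF hNq
    have hQq : (cokernel η).IsQuasicoherent := isQuasicoherent_cokernel η hF hNq
    obtain ⟨q, rfl⟩ : ∃ q, p = q + 1 := ⟨p - 1, by omega⟩
    have hK : Subsingleton (Coh.HH X (kernel η) (q + 1)) :=
      key _ hKq (fun x hx => subsingleton_stalk_kernel_toPushRestrict F U x hx) (q + 1) (by omega)
    have hQ : Subsingleton (Coh.HH X (cokernel η) q) :=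
      key _ hQq (fun x hx => subsingleton_stalk_cokernel_toPushRestrict F U x hx) q (by omega)
    have hN : Subsingleton
        (Coh.HH X ((Scheme.Modules.pushforward U.ι).obj (F.restrict U.ι)) (q + 1)) := by
      haveI : IsAffine (↑U : Scheme.{u}) := hUaff
      haveI : Coh.IsQCoh (F.restrict U.ι) := inferInstance
      have h0 : Subsingleton (Coh.HH (↑U) (F.restrict U.ι) (q + 1)) :=
        Groth.Agent.S0007.result (↑U) (F.restrict U.ι) (q + 1) (Nat.succ_pos q)
      exact (Groth.Agent.Lib.Helper67.AffPush.pushEdge_bijective U.ι (F.restrict U.ι)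
        (q + 1)).injective.subsingleton
    have hI : Subsingleton (Coh.HH X (Abelian.image η) (q + 1)) :=
      Groth.Agent.Lib.Helper38.HHChase.subsingleton_HH_left
        (Groth.Agent.Lib.Helper38.ImageSES.imageCokerSES_shortExact η) q hQ hN
    exact Groth.Agent.Lib.Helper1.subsingleton_HH_of_shortExact
      (Groth.Agent.Lib.Helper1.kerImComplex_shortExact η) (q + 1) hK hI

end Groth.Agent.Lib.Helper56.AffStratCoh
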