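import Mathlib

/-!
# Maximal linearly independent families in finite torsion-free algebras (helper56)

`exists_indep_span`: for a finite injective extension of domains `A ⊆ B` there are `r > 0` and an
`A`-linearly independent family `b : Fin r → B` such that every element of `B` has a nonzero
`A`-multiple in the span of `b`.

`map_bijective_of_torsion_coker`: a linear map that is injective and whose
cokernel is `S`-torsion localizes to a bijection.
-/

set_option autoImplicit false

namespace Groth.Agent.Lib.Helper56.IndepSpan

theorem exists_indep_span (A B : Type*) [CommRing A] [IsDomain A] [CommRing B] [IsDomain B]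
    [Algebra A B] [Module.Finite A B] (hinj : Function.Injective (algebraMap A B)) :
    ∃ (r : ℕ) (b : Fin r → B), 0 < r ∧ LinearIndependent A b ∧
      ∀ β : B, ∃ t : A, t ≠ 0 ∧ t • β ∈ Submodule.span A (Set.range b) := by
  classical
  have : FaithfulSMul A B := (faithfulSMul_iff_algebraMap_injective A B).mpr hinj
  have : Module.IsTorsionFree A B := inferInstance
  have hr : 0 < Module.finrank A B := Module.finrank_pos
  obtain ⟨b, hb⟩ := exists_linearIndependent_of_le_finrank (R := A) (M := B) le_rfl
  refine ⟨Module.finrank A B, b, hr, hb, fun β => ?_⟩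
  by_contra hcon
  push Not at hcon
  have hli : LinearIndependent A (Fin.cons β b : Fin (Module.finrank A B + 1) → B) := by
    refine hb.finCons' β b ?_
    intro c y hy hcy
    by_contra hc
    refine hcon c hc ?_
    have : c • β = -y := eq_neg_of_add_eq_zero_left hcy
    rw [this]
    exact Submodule.neg_mem _ hy
  have := hli.fintype_card_le_finrank
  simp at this

/-- A linear map `g : P → N` that is injective and has `S`-torsion cokernel induces a bijection
between localizations at `S`. -/
theorem map_bijective_of_torsion_coker {A : Type*} [CommRing A] (S : Submonoid A)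
    {P N P' N' : Type*} [AddCommGroup P] [Module A P] [AddCommGroup N] [Module A N]
    [AddCommGroup P'] [Module A P'] [AddCommGroup N'] [Module A N']
    (p : P →ₗ[A] P') (n : N →ₗ[A] N') [IsLocalizedModule S p] [IsLocalizedModule S n]
    (g : P →ₗ[A] N) (hg : Function.Injective g)
    (hsurj : ∀ m : N, ∃ t ∈ S, ∃ τ : P, g τ = t • m) :
    Function.Bijective (IsLocalizedModule.map S p n g) := by
  refine ⟨IsLocalizedModule.map_injective S p n g hg, fun y => ?_⟩
  obtain ⟨⟨m, s⟩, hms⟩ := IsLocalizedModule.surj S n y
  obtain ⟨t, ht, τ, hτ⟩ := hsurj m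
  refine ⟨IsLocalizedModule.mk' p τ (⟨t, ht⟩ * s), ?_⟩
  rw [IsLocalizedModule.map_mk', hτ]
  rw [IsLocalizedModule.mk'_eq_iff]
  simp only at hms
  rw [mul_smul, hms]
  exact (n.map_smul t m)

end Groth.Agent.Lib.Helper56.IndepSpan
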