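import Mathlib
import Groth.Prelude.Def_Coh
import Groth.Agent.Lib.Helper30.FreeTerminal
import Groth.Agent.Lib.Helper49.StalkNbhd
import Groth.Agent.Lib.Helper49.QcqsModules
import Groth.Agent.Lib.Helper80.SubQCoh
import Groth.Agent.Lib.Helper49.FiniteTypeLocal
import Groth.Agent.Lib.Helper17.CohSigma
import Groth.Agent.Lib.Helper11.GlobalGen
import Groth.Agent.Lib.Helper45.ModulesExact
import Groth.Agent.Lib.Helper45.LocalizingOn
import Groth.Agent.Lib.Helper56.IndepSpan

/-!
# Hartshorne III Ex. 4.2(a) (helper56)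

`exists_free_hom`: for a finite surjective morphism `f : X ⟶ Y` of integral schemes, `X`
Noetherian, there are `r > 0`, a coherent `O_X`-module `M` and `α : O_Y^r ⟶ f_* M` which is
bijective on stalks at the generic point of `Y`.

Construction: `U ∋ η` affine open of `Y`, `V = f⁻¹ U`, `b₁ … b_r ∈ Γ(X, V)` a maximal
`Γ(Y, U)`-linearly independent family; `M` is the image of `O_X^r ⟶ j_* O_V` given by the `b_i`
(`j : V ⟶ X`), and `α` is given by the same sections.
-/

set_option autoImplicit false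
set_option linter.style.haveILetI false
universe u
open CategoryTheory CategoryTheory.Limits AlgebraicGeometry TopologicalSpace Opposite

namespace Groth.Agent.Lib.Helper56.FinGenericFree

open Groth.Agent.Lib.Helper30.FreeTerminal

variable {X Y : Scheme.{u}}

/-- The pushforward of the structure module of an open subscheme `V`. -/
noncomputable abbrev pushO (V : X.Opens) : X.Modules :=
  (Scheme.Modules.pushforward V.ι).obj (Coh.structureModule ↑V)

/-- `Γ(j_* O_V, V)` is `Γ(X, V)`: the ring isomorphism. -/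
noncomputable def secEquiv (V : X.Opens) : Γ(X, V) ≃+* Γ(↑V, V.ι ⁻¹ᵁ V) :=
  RingEquiv.ofBijective (V.ι.app V).hom (by
    have : IsIso (V.ι.app V) :=
      Scheme.Hom.isIso_app V.ι V (by rw [Scheme.Opens.opensRange_ι])
    exact (ConcreteCategory.isIso_iff_bijective (V.ι.app V)).mp this)

theorem pushO_smul (V : X.Opens) (β : Γ(X, V)) (s : Γ(pushO V, V)) :
    β • s = (show Γ(pushO V, V) from
      ((V.ι.app V).hom β * (show Γ(↑V, V.ι ⁻¹ᵁ V) from s) : Γ(↑V, V.ι ⁻¹ᵁ V))) := rfl

/-- The global section of `j_* O_V` attached to a function on `V`. -/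
noncomputable def glob (V : X.Opens) (β : Γ(X, V)) : (pushO V).val.obj (op ⊤) :=
  (show Γ(↑V, V.ι ⁻¹ᵁ ⊤) from V.topIso.inv β)

/-- `Γ(j_* O_V, V) ≃ Γ(X, V)` as additive groups. -/
noncomputable def secAdd (V : X.Opens) : Γ(pushO V, V) ≃+ Γ(X, V) :=
  { toFun := fun s => (secEquiv V).symm (show Γ(↑V, V.ι ⁻¹ᵁ V) from s)
    invFun := fun β => (show Γ(pushO V, V) from secEquiv V β)
    left_inv := fun _ => (secEquiv V).apply_symm_apply _
    right_inv := fun _ => (secEquiv V).symm_apply_apply _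
    map_add' := fun _ _ => (secEquiv V).symm.map_add _ _ }

theorem secAdd_smul (V : X.Opens) (β : Γ(X, V)) (s : Γ(pushO V, V)) :
    secAdd V (β • s) = β * secAdd V s := by
  change (secEquiv V).symm ((secEquiv V) β * (show Γ(↑V, V.ι ⁻¹ᵁ V) from s)) = _
  rw [map_mul, RingEquiv.symm_apply_apply]
  rfl

theorem secAdd_secEquiv (V : X.Opens) (β : Γ(X, V)) :
    secAdd V (show Γ(pushO V, V) from secEquiv V β) = β :=
  (secEquiv V).symm_apply_apply _

theorem map_map_eq {A B C : X.Opens} (i : op A ⟶ op B) (j : op B ⟶ op C) (k : op A ⟶ op C)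
    (β : Γ(X, A)) :
    (X.presheaf.map j).hom ((X.presheaf.map i).hom β) = (X.presheaf.map k).hom β := by
  have h : i ≫ j = k := Subsingleton.elim _ _
  rw [← h, Functor.map_comp, CommRingCat.comp_apply]

theorem map_glob (V : X.Opens) (β : Γ(X, V)) :
    (pushO V).val.map (homOfLE (le_top : V ≤ ⊤)).op (glob V β) =
      (show Γ(pushO V, V) from secEquiv V β) := by
  change (↑V : Scheme.{u}).presheaf.map _ (V.topIso.inv β) = (V.ι.app V).hom β
  rw [Scheme.Opens.topIso_inv]
  exact map_map_eq _ _ _ β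

/-- The free module of rank `r`, as an object of `X.Modules`. -/
noncomputable abbrev freeMod (X : Scheme.{u}) (r : ℕ) : X.Modules :=
  SheafOfModules.free (ULift.{u} (Fin r))

/-- Finite free modules are coherent. -/
theorem isCoh_free (X : Scheme.{u}) (r : ℕ) :
    Coh.IsCoh (SheafOfModules.free (ULift.{u} (Fin r)) : X.Modules) := by
  have h1 : Coh.IsCoh (∐ fun _ : Fin r => Coh.structureModule X) :=
    Groth.Agent.Lib.Helper17.CohSigma.isCoh_sigma r _ (fun _ =>
      ⟨Groth.Agent.Lib.Helper1.isQuasicoherent_structureModule X,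
        Groth.Agent.Lib.Helper11.GenLocus.isFiniteType_structureModule X⟩)
  let e : (∐ fun _ : ULift.{u} (Fin r) => Coh.structureModule X) ≅
      ∐ fun _ : Fin r => Coh.structureModule X :=
    Sigma.reindex (Equiv.ulift : ULift.{u} (Fin r) ≃ Fin r) (fun _ : Fin r => Coh.structureModule X)
  exact Groth.Agent.Lib.Helper16.CohThick.isCoh_of_iso e.symm h1

/-- Sections of `f` over an affine open are injective for a surjective morphism to a reduced
scheme. -/
theorem app_injective_of_surjective (f : X ⟶ Y) [Surjective f] [IsReduced Y] (U : Y.Opens) :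
    Function.Injective (f.app U) := by
  rw [injective_iff_map_eq_zero]
  intro a ha
  have h4 : X.basicOpen (f.app U a) = ⊥ := by
    rw [ha]
    exact Scheme.basicOpen_zero X _
  rw [← Scheme.preimage_basicOpen] at h4
  have h5 : Y.basicOpen a = ⊥ := by
    ext y
    simp only [Opens.coe_bot, Set.mem_empty_iff_false, iff_false]
    intro hy
    obtain ⟨x, rfl⟩ := f.surjective y
    have : x ∈ f ⁻¹ᵁ Y.basicOpen a := hy
    rw [h4] at this
    exact this
  exact (AlgebraicGeometry.basicOpen_eq_bot_iff a).mp h5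


/-- Values of a morphism out of a free module on the basis sections over any object. -/
theorem app_eF {D : Type u} [SmallCategory D] {K : GrothendieckTopology D}
    {R : Sheaf K RingCat.{u}} {T : D} {I : Type u} {N : SheafOfModules.{u} R}
    (v : SheafOfModules.free I ⟶ N) (i : I) {W : D} (g : W ⟶ T) :
    v.val.app (op W) (eF i W) = N.val.map g.op (v.val.app (op T) (eF i T)) := by
  rw [← eF_map i g, PresheafOfModules.naturality_apply]

section Main

variable [IsIntegral X] [IsNoetherian X] [IsIntegral Y] (f : X ⟶ Y) [IsFinite f]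
  [Surjective f]

attribute [local instance] Groth.Agent.Lib.Helper45.stalkModuleSections

theorem exists_free_hom :
    ∃ (r : ℕ) (M : X.Modules)
      (α : (SheafOfModules.free (ULift.{u} (Fin r)) : Y.Modules) ⟶
        (Scheme.Modules.pushforward f).obj M),
      0 < r ∧ Coh.IsCoh M ∧
        Function.Bijective (Groth.Agent.Lib.Helper49.stalkMap α (genericPoint ↥Y)).hom := by
  classical
  obtain ⟨_, ⟨U, hU : IsAffineOpen U, rfl⟩, hηU, -⟩ :=
    Y.isBasis_affineOpens.exists_subset_of_mem_open (Set.mem_univ (genericPoint ↥Y)) isOpen_univ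
  set V : X.Opens := f ⁻¹ᵁ U with hVdef
  have hV : IsAffineOpen V := hU.preimage f
  obtain ⟨x₀, hx₀⟩ := f.surjective (genericPoint ↥Y)
  haveI : Nonempty V := ⟨⟨x₀, by show f x₀ ∈ U; rw [hx₀]; exact hηU⟩⟩
  haveI : Nonempty U := ⟨⟨_, hηU⟩⟩
  letI : Algebra Γ(Y, U) Γ(X, V) := (f.app U).hom.toAlgebra
  haveI : Module.Finite Γ(Y, U) Γ(X, V) := IsFinite.finite_app f U hU
  have hinj : Function.Injective (algebraMap Γ(Y, U) Γ(X, V)) := app_injective_of_surjective f U
  obtain ⟨r, b, hr, hb, hspan⟩ := IndepSpan.exists_indep_span Γ(Y, U) Γ(X, V) hinj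
  -- the quasi-coherent module `j_* O_V`
  have hTX : IsTerminal (⊤ : X.Opens) := Limits.isTerminalTop
  have hTY : IsTerminal (⊤ : Y.Opens) := Limits.isTerminalTop
  haveI : (Coh.structureModule (↑V : Scheme.{u})).IsQuasicoherent :=
    Groth.Agent.Lib.Helper1.isQuasicoherent_structureModule _
  have hN₀ : (pushO V).IsQuasicoherent :=
    Groth.Agent.Lib.Helper49.isQuasicoherent_pushforward _ V.ι
  obtain ⟨φ₀, hφ₀⟩ : ∃ φ₀ : freeMod X r ⟶ pushO V,
      ∀ i, φ₀.val.app (op ⊤) (eF i ⊤) = glob V (b i.down) :=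
    ⟨freeDesc hTX (pushO V) (fun i => glob V (b i.down)), fun i => freeDesc_eF hTX _ _ i⟩
  have hE : Epi (Abelian.factorThruImage φ₀) := inferInstance
  have hMo : Mono (Abelian.image.ι φ₀) := inferInstance
  obtain ⟨M, π, ι, hπι, hπ, hι⟩ : ∃ (M : X.Modules)
      (π : freeMod X r ⟶ M) (ι : M ⟶ pushO V),
      π ≫ ι = φ₀ ∧ Epi π ∧ Mono ι :=
    ⟨Abelian.image φ₀, Abelian.factorThruImage φ₀, Abelian.image.ι φ₀, Abelian.image.fac φ₀,
      hE, hMo⟩
  have hMq : M.IsQuasicoherent :=
    Groth.Agent.Lib.Helper80.SubQCoh.isQuasicoherent_of_epi_mono π ι inferInstance hN₀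
  have hMc : Coh.IsCoh M :=
    ⟨hMq, Groth.Agent.Lib.Helper49.isFiniteType_of_epi π (isCoh_free X r).2⟩
  set N : Y.Modules := (Scheme.Modules.pushforward f).obj M with hNdef
  haveI : N.IsQuasicoherent := Groth.Agent.Lib.Helper49.isQuasicoherent_pushforward M f
  obtain ⟨α, hα⟩ : ∃ α : freeMod Y r ⟶ N,
      ∀ i, α.val.app (op ⊤) (eF i ⊤) = π.val.app (op ⊤) (eF i ⊤) :=
    ⟨freeDesc hTY N (fun i => π.val.app (op ⊤) (eF i ⊤)), fun i => freeDesc_eF hTY _ _ i⟩
  refine ⟨r, M, α, hr, hMc, ?_⟩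
  -- the comparison map `Γ(f_* M, U) = Γ(M, V) ↪ Γ(j_* O_V, V) = Γ(X, V)`
  let Φ₀ : Γ(M, V) →ₗ[Γ(X, V)] Γ(X, V) :=
    { toFun := fun m => secAdd V ((ι.app V).hom m)
      map_add' := fun m₁ m₂ => by rw [map_add, map_add]
      map_smul' := fun c m => by
        have h1 : (ι.app V).hom (c • m) = c • (ι.app V).hom m :=
          Scheme.Modules.Hom.app_smul ι _ _
        rw [h1, secAdd_smul]
        rfl }
  have hΦ₀inj : Function.Injective Φ₀ := fun m₁ m₂ h =>
    Groth.Agent.Lib.Helper49.app_injective_of_mono ι V ((secAdd V).injective h)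
  let Φ : Γ(N, U) →ₗ[Γ(Y, U)] Γ(X, V) :=
    { toFun := fun m => Φ₀ m
      map_add' := fun m₁ m₂ => Φ₀.map_add m₁ m₂
      map_smul' := fun c m => Φ₀.map_smul ((f.app U).hom c) m }
  have hΦinj : Function.Injective Φ := fun m₁ m₂ h => hΦ₀inj h
  have hΦgen : ∀ j : ULift.{u} (Fin r), Φ (α.app U (eF j U)) = b j.down := by
    intro j
    have h1 : α.val.app (op U) (eF j U) =
        N.val.map (homOfLE (le_top : U ≤ ⊤)).op (π.val.app (op ⊤) (eF j ⊤)) := by
      rw [app_eF α j (homOfLE (le_top : U ≤ ⊤)), hα j]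
    have h2 : ι.val.app (op V) (M.val.map (homOfLE (le_top : V ≤ ⊤)).op
        (π.val.app (op ⊤) (eF j ⊤))) = (show Γ(pushO V, V) from secEquiv V (b j.down)) := by
      rw [PresheafOfModules.naturality_apply, ← map_glob V (b j.down), ← hφ₀ j, ← hπι]
      rfl
    change (secEquiv V).symm (ι.val.app (op V) (α.val.app (op U) (eF j U))) = b j.down
    rw [h1]
    change (secEquiv V).symm (ι.val.app (op V) (M.val.map (homOfLE (le_top : V ≤ ⊤)).op
        (π.val.app (op ⊤) (eF j ⊤)))) = b j.down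
    rw [h2]
    exact (secEquiv V).symm_apply_apply _
  -- the composite `Γ(O_Y^r, U) → Γ(X, V)`
  let Ψ : Γ(freeMod Y r, U) →ₗ[Γ(Y, U)] Γ(X, V) :=
    Φ ∘ₗ Groth.Agent.Lib.Helper49.appₗ α U
  have hΨ : ∀ c : ULift.{u} (Fin r) → Γ(Y, U),
      Ψ (∑ j, c j • (show Γ(freeMod Y r, U) from eF j U)) = ∑ i : Fin r, c ⟨i⟩ • b i := by
    intro c
    rw [map_sum]
    rw [← Equiv.sum_comp (Equiv.ulift.{u} (α := Fin r)).symm]
    refine Finset.sum_congr rfl fun i _ => ?_
    rw [map_smul]
    congr 1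
    exact hΦgen _
  have hcoords : ∀ τ : Γ(freeMod Y r, U), ∃ c : ULift.{u} (Fin r) → Γ(Y, U),
      τ = ∑ j, c j • (show Γ(freeMod Y r, U) from eF j U) := fun τ =>
    ⟨_, coords (R := Y.ringCatSheaf) U τ⟩
  -- the generic point as a point of `U`
  obtain ⟨η', hη'⟩ : ∃ η' : U, (η' : Y) = genericPoint ↥Y := ⟨⟨_, hηU⟩, rfl⟩
  rw [← hη']
  have hS : ∀ t : Γ(Y, U), t ≠ 0 → t ∈ (hU.primeIdealOf η').asIdeal.primeCompl := by
    intro t ht
    have h1 : (η' : Y) ∈ Y.basicOpen t := by
      rw [hη']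
      change genericPoint ↥Y ∈ (Y.basicOpen t : Set Y)
      rw [(genericPoint_spec Y).mem_open_set_iff (Y.basicOpen t).isOpen, Set.univ_inter]
      by_contra hne
      rw [Set.not_nonempty_iff_eq_empty] at hne
      exact ht ((AlgebraicGeometry.basicOpen_eq_bot_iff t).mp (Opens.ext hne))
    exact (Groth.Agent.Lib.Helper45.mem_basicOpen_iff_not_mem_primeIdealOf hU η' t).mp h1
  haveI := Groth.Agent.Lib.Helper45.isLocalizedModule_germₗ hU (freeMod Y r) η'
  haveI := Groth.Agent.Lib.Helper45.isLocalizedModule_germₗ hU N η'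
  have hloc := Groth.Agent.Lib.Helper49.stalkMapₗ_eq_map α hU η'
  have hbij := IndepSpan.map_bijective_of_torsion_coker (hU.primeIdealOf η').asIdeal.primeCompl
    (Groth.Agent.Lib.Helper45.germₗ (freeMod Y r) η') (Groth.Agent.Lib.Helper45.germₗ N η')
    (Groth.Agent.Lib.Helper49.appₗ α U) ?_ ?_
  · rw [← hloc] at hbij
    exact hbij
  · -- injectivity
    rw [← LinearMap.ker_eq_bot, LinearMap.ker_eq_bot']
    intro τ hτ
    obtain ⟨c, rfl⟩ := hcoords τ
    have h0 : Ψ (∑ j, c j • (show Γ(freeMod Y r, U) from eF j U)) = 0 := by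
      change Φ (Groth.Agent.Lib.Helper49.appₗ α U _) = 0
      rw [hτ, map_zero]
    rw [hΨ] at h0
    have hc := (Fintype.linearIndependent_iff.mp hb) (fun i => c ⟨i⟩) h0
    refine Finset.sum_eq_zero fun j _ => ?_
    rw [show c j = 0 from hc j.down, zero_smul]
  · -- the cokernel is torsion
    intro m
    obtain ⟨t, ht, hmem⟩ := hspan (Φ m)
    obtain ⟨c, hc⟩ := (Submodule.mem_span_range_iff_exists_fun _).mp hmem
    refine ⟨t, hS t ht, ∑ j : ULift.{u} (Fin r), c j.down • (show Γ(freeMod Y r, U) from eF j U), ?_⟩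
    apply hΦinj
    have := hΨ (fun j => c j.down)
    change Φ (Groth.Agent.Lib.Helper49.appₗ α U _) = _ at this
    rw [this, hc, map_smul]

end Main

end Groth.Agent.Lib.Helper56.FinGenericFree
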