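import Groth.Agent.Lib.Helper56.OpenEmbExcision
import Groth.Agent.S6032
import Groth.Agent.S5173
import Groth.Agent.Lib.Helper26.LcCM
import Groth.Agent.Lib.Helper80.ModHartogs
import Groth.Agent.Lib.Helper29.DepthLoc2
import Groth.Agent.Lib.Helper49.FiniteTypeAffine

/-!
# Cohomology with supports over an affine open versus depth (helper56)

For a coherent module `F` on a locally Noetherian scheme `X`, an affine open `W` and an open `U`:
`H^i_{W ∖ U}(W, F) = 0` for all `i < n` iff `depth F_x ≥ n` for all `x ∈ W ∖ U`.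
-/

set_option autoImplicit false
universe u
open CategoryTheory CategoryTheory.Limits TopologicalSpace Opposite AlgebraicGeometry

namespace Groth.Agent.Lib.Helper56.HZDepth

open Groth.Agent.Lib.Helper56.OpenEmbExcision

/-- algebraic form: vanishing of cohomology of `N~` with supports in `V(fs)` below `n` iff
`depth_{(fs)} N ≥ n`. -/
theorem HZM_tilde_subsingleton_iff (A : Type u) [CommRing A] [IsNoetherianRing A] (fs : List A)
    (N : Type u) [AddCommGroup N] [Module A N] [Module.Finite A N] (n : ℕ) :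
    (∀ i : ℕ, i < n → Subsingleton (LocCohZ.HZM (Spec (CommRingCat.of A))
        (AlgebraicGeometry.tilde (R := CommRingCat.of A) (ModuleCat.of A N)) i
        (LocCoh.puncturedOpen A (Ideal.span {a | a ∈ fs})))) ↔
      (n : ℕ∞) ≤ LocCoh.idealDepth (Ideal.span {a | a ∈ fs}) N := by
  rw [← Groth.Agent.Lib.Helper26.LcCM.lc_vanishing_iff_le_idealDepth]
  refine forall₂_congr fun i _ => ?_
  obtain ⟨e1⟩ := Groth.Agent.S6032.result A fs N i
  obtain ⟨e2⟩ := Groth.Agent.S5173.result A fs N i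
  exact ⟨fun h => (e2.toEquiv.trans e1.toEquiv).subsingleton,
    fun h => (e2.toEquiv.trans e1.toEquiv).symm.subsingleton⟩

/-- same, for an arbitrary ideal of a Noetherian ring -/
theorem HZM_tilde_subsingleton_iff' (A : Type u) [CommRing A] [IsNoetherianRing A] (I : Ideal A)
    (N : Type u) [AddCommGroup N] [Module A N] [Module.Finite A N] (n : ℕ) :
    (∀ i : ℕ, i < n → Subsingleton (LocCohZ.HZM (Spec (CommRingCat.of A))
        (AlgebraicGeometry.tilde (R := CommRingCat.of A) (ModuleCat.of A N)) i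
        (LocCoh.puncturedOpen A I))) ↔
      (n : ℕ∞) ≤ LocCoh.idealDepth I N := by
  obtain ⟨s, hs⟩ := (isNoetherianRing_iff_ideal_fg A).mp inferInstance I
  have hI : Ideal.span {a | a ∈ s.toList} = I := by
    rw [← hs]
    congr 1
    ext a
    simp
  rw [← hI]
  exact HZM_tilde_subsingleton_iff A s.toList N n

/-- invariance of `Ext`-vanishing under isomorphism of the second variable -/
lemma subsingleton_ext_iff_of_iso {C : Type (u + 1)} [Category.{u} C] [Abelian C] [HasExt.{u} C]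
    (Z : C) {F G : C} (e : F ≅ G) (i : ℕ) :
    Subsingleton (Abelian.Ext.{u} Z F i) ↔ Subsingleton (Abelian.Ext.{u} Z G i) := by
  have e' := (((Abelian.extFunctor.{u} i).obj (op Z)).mapIso e).addCommGroupIsoToAddEquiv
  exact ⟨fun h => @Equiv.subsingleton _ _ e'.symm.toEquiv h,
    fun h => @Equiv.subsingleton _ _ e'.toEquiv h⟩

variable {X : Scheme.{u}}

/-- excision: cohomology with supports over an affine open `W` is computed on `Spec Γ(X, W)` -/
theorem nonempty_HZ_addEquiv_HZM_restrict {W : X.Opens} (hW : IsAffineOpen W) (U : X.Opens)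
    (F : X.Modules) (i : ℕ) :
    Nonempty (LocCohZ.HZ (X := X.toTopCat) (Coh.toAb F) i (inf_le_left : W ⊓ U ≤ W) ≃+
      LocCohZ.HZM (Spec Γ(X, W)) (F.restrict hW.fromSpec) i (hW.fromSpec ⁻¹ᵁ U)) := by
  have hV : (G hW.fromSpec.isOpenEmbedding).obj ⊤ = W :=
    Groth.Agent.Lib.Helper49.fromSpec_image_top hW
  have hW' : (G hW.fromSpec.isOpenEmbedding).obj (hW.fromSpec ⁻¹ᵁ U) = W ⊓ U := by
    have := hW.fromSpec.image_preimage_eq_opensRange_inf U
    rw [hW.opensRange_fromSpec] at this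
    exact this
  exact nonempty_HZ_addEquiv_HZc_E hW.fromSpec.isOpenEmbedding (inf_le_left : W ⊓ U ≤ W) hW' hV
    (Coh.toAb F) i

attribute [local instance] Groth.Agent.Lib.Helper45.stalkModuleSections

open Groth.Agent.Lib.Helper45 Groth.Agent.Lib.Helper49 Groth.Agent.Lib.Helper80
  Groth.Agent.Lib.Helper29 in
/-- **Affine case**: `H^i_{W∖U}(W, F) = 0` for `i < n` iff `depth F_x ≥ n` on `W ∖ U`. -/
theorem HZ_subsingleton_iff_depth_of_isAffineOpen [IsLocallyNoetherian X] (F : X.Modules)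
    (hF : Coh.IsCoh F) (U : X.Opens) {W : X.Opens} (hW : IsAffineOpen W) (n : ℕ) :
    (∀ i : ℕ, i < n → Subsingleton (LocCohZ.HZ (X := X.toTopCat) (Coh.toAb F) i
        (inf_le_left : W ⊓ U ≤ W))) ↔
      ∀ x : X, x ∈ W → x ∉ U →
        (n : ℕ∞) ≤ LocCoh.depth (X.presheaf.stalk x) (F.presheaf.stalk x) := by
  have hq : F.IsQuasicoherent := hF.1
  have : IsNoetherianRing Γ(X, W) := IsLocallyNoetherian.component_noetherian ⟨W, hW⟩
  have : Module.Finite Γ(X, W) Γ(F, W) := finite_sections_of_isCoh hW F hF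
  -- the module on `Spec Γ(X, W)`
  have hQq : (F.restrict hW.fromSpec).IsQuasicoherent :=
    Scheme.Modules.isQuasicoherent_restrictFunctor _ _
  have hQ : IsIso (F.restrict hW.fromSpec).fromTildeΓ :=
    (isQuasicoherent_iff_isIso_fromTildeΓ _).mp inferInstance
  let N : ModuleCat Γ(X, W) :=
    (modulesSpecToSheaf.obj (F.restrict hW.fromSpec)).presheaf.obj (.op ⊤)
  let eQ : tilde N ≅ F.restrict hW.fromSpec := asIso (F.restrict hW.fromSpec).fromTildeΓ
  let sF : N ≃ₗ[Γ(X, W)] Γ(F, W) := sectionsFromSpecTopEquiv hW F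
  have : Module.Finite Γ(X, W) N := Module.Finite.equiv sF.symm
  -- the ideal of the complement of `U` in `W`
  let D : (Spec Γ(X, W)).Opens := hW.fromSpec ⁻¹ᵁ U
  let Dc : Set (PrimeSpectrum Γ(X, W)) := ((D : Set ↥(Spec Γ(X, W))))ᶜ
  have hcl : IsClosed Dc := D.isOpen.isClosed_compl
  obtain ⟨I, hI⟩ := (PrimeSpectrum.isClosed_iff_zeroLocus_ideal _).mp hcl
  have hD : LocCoh.puncturedOpen Γ(X, W) I = D := by
    apply Opens.ext
    change (PrimeSpectrum.zeroLocus (I : Set Γ(X, W)))ᶜ = _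
    rw [← hI]
    exact compl_compl _
  -- step 1: cohomology with supports versus `I`-depth of the sections
  have h1 : (∀ i : ℕ, i < n → Subsingleton (LocCohZ.HZ (X := X.toTopCat) (Coh.toAb F) i
        (inf_le_left : W ⊓ U ≤ W))) ↔ (n : ℕ∞) ≤ LocCoh.idealDepth I Γ(F, W) := by
    rw [← idealDepth_congr I sF, ← HZM_tilde_subsingleton_iff' Γ(X, W) I N n]
    refine forall₂_congr fun i _ => ?_
    obtain ⟨e⟩ := nonempty_HZ_addEquiv_HZM_restrict hW U F i
    rw [hD]
    have h2 := subsingleton_ext_iff_of_iso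
      (LocCohZ.zq (X := (Spec Γ(X, W)).toTopCat) (le_top : D ≤ ⊤))
      ((SheafOfModules.toSheaf _).mapIso eQ) i
    exact ⟨fun h => h2.mpr (@Equiv.subsingleton _ _ e.symm.toEquiv h),
      fun h => @Equiv.subsingleton _ _ e.toEquiv (h2.mp h)⟩
  rw [h1]
  -- step 2: `I`-depth of the sections versus depth of the stalks
  have hmemU : ∀ p : PrimeSpectrum Γ(X, W), hW.fromSpec p ∈ U ↔ ¬ I ≤ p.asIdeal := by
    intro p
    have h3 : hW.fromSpec p ∈ U ↔ p ∉ Dc :=
      (not_not (a := p ∈ (D : Set ↥(Spec Γ(X, W))))).symm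
    rw [h3, hI, PrimeSpectrum.mem_zeroLocus, SetLike.coe_subset_coe]
  have hx_of : ∀ x : W, (x : X) ∈ U ↔ ¬ I ≤ (hW.primeIdealOf x).asIdeal := by
    intro x
    rw [← hmemU, hW.fromSpec_primeIdealOf x]
  have hdep : ∀ x : W, LocCoh.depth (X.presheaf.stalk (x : X)) (F.presheaf.stalk (x : X)) =
      LocCoh.depth (Localization.AtPrime (hW.primeIdealOf x).asIdeal)
        (LocalizedModule (hW.primeIdealOf x).asIdeal.primeCompl Γ(F, W)) := by
    intro x
    have := hW.isLocalization_stalk x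
    have := isLocalizedModule_germₗ hW F x
    exact depth_eq_depth_localizedModule (hW.primeIdealOf x).asIdeal
      (X.presheaf.stalk (x : X)) (germₗ F x)
  constructor
  · intro h x hxW hxU
    have hIp : I ≤ (hW.primeIdealOf ⟨x, hxW⟩).asIdeal := by
      by_contra hc
      exact hxU ((hx_of ⟨x, hxW⟩).mpr hc)
    have := hdep ⟨x, hxW⟩
    rw [this]
    exact h.trans ((idealDepth_mono hIp Γ(F, W)).trans
      (idealDepth_le_depth_localization Γ(X, W) (hW.primeIdealOf ⟨x, hxW⟩).asIdeal Γ(F, W)))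
  · intro h
    have := le_idealDepth_of_forall_le_depth_localization Γ(X, W) n Γ(F, W) I (by
      intro p hp hIp
      obtain ⟨x, hx⟩ := exists_primeIdealOf_eq hW ⟨p, hp⟩
      have hp' : (hW.primeIdealOf x).asIdeal = p := congrArg PrimeSpectrum.asIdeal hx
      subst hp'
      have hxU : (x : X) ∉ U := fun h => ((hx_of x).mp h) hIp
      rw [← hdep x]
      exact h x x.2 hxU)
    exact_mod_cast this

end Groth.Agent.Lib.Helper56.HZDepth
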