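import Mathlib
import Groth.Agent.Lib.Helper33.FunctorLES

/-!
# The kernel functor of a natural transformation and its right derived functors (helper56)

For `ρ : T₁ ⟶ T₂` between additive functors of abelian categories, `kerF ρ` is the functor
`M ↦ ker (ρ_M)`.  If `ρ_I` is an epimorphism for every injective `I`, there is a long exact
sequence `… → Rⁿ⁻¹T₁ → Rⁿ⁻¹T₂ → Rⁿ(kerF ρ) → RⁿT₁ → RⁿT₂ → …` (helper33 `FunctorLES`); hence any
class of objects stable under kernels, cokernels and extensions which contains the `RⁿT_k(F)`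
contains the `Rⁿ(kerF ρ)(F)`.
-/

set_option autoImplicit false
universe v v' u u'
open CategoryTheory CategoryTheory.Limits

namespace Groth.Agent.Lib.Helper56.KerFunctor

open Groth.Agent.Lib.Helper33.FunctorLES

section Def

variable {C : Type u} [Category.{v} C] {D : Type u'} [Category.{v'} D] [Abelian D]
  {T₁ T₂ : C ⥤ D} (ρ : T₁ ⟶ T₂)

/-- the kernel functor `M ↦ ker (ρ_M)` -/
noncomputable def kerF : C ⥤ D where
  obj M := kernel (ρ.app M)
  map {M N} φ := kernel.map _ _ (T₁.map φ) (T₂.map φ) (ρ.naturality φ).symm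
  map_id M := by
    apply equalizer.hom_ext
    simp
  map_comp φ ψ := by
    apply equalizer.hom_ext
    simp

/-- the inclusion `kerF ρ ⟶ T₁` -/
noncomputable def kerι : kerF ρ ⟶ T₁ where
  app M := kernel.ι (ρ.app M)
  naturality M N φ := by
    simp [kerF]

lemma kerι_app (M : C) : (kerι ρ).app M = kernel.ι (ρ.app M) := rfl

@[reassoc]
lemma kerF_map_ι {M N : C} (φ : M ⟶ N) :
    (kerF ρ).map φ ≫ (kerι ρ).app N = (kerι ρ).app M ≫ T₁.map φ :=
  (kerι ρ).naturality φ

@[reassoc]
lemma kerι_app_ρ (M : C) : (kerι ρ).app M ≫ ρ.app M = 0 := kernel.condition _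

lemma kerι_ρ : kerι ρ ≫ ρ = 0 := by
  ext M
  exact kerι_app_ρ ρ M

instance (M : C) : Mono ((kerι ρ).app M) := inferInstanceAs (Mono (kernel.ι _))

/-- the universal property of `kerF ρ`. -/
noncomputable def kerLift {A : D} {M : C} (f : A ⟶ T₁.obj M) (hf : f ≫ ρ.app M = 0) :
    A ⟶ (kerF ρ).obj M :=
  kernel.lift _ f hf

@[reassoc (attr := simp)]
lemma kerLift_ι {A : D} {M : C} (f : A ⟶ T₁.obj M) (hf : f ≫ ρ.app M = 0) :
    kerLift ρ f hf ≫ (kerι ρ).app M = f :=
  kernel.lift_ι _ _ _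

end Def

section Additive

variable {C : Type u} [Category.{v} C] [Preadditive C] {D : Type u'} [Category.{v'} D] [Abelian D]
  {T₁ T₂ : C ⥤ D} [T₁.Additive] (ρ : T₁ ⟶ T₂)

instance additive_kerF : (kerF ρ).Additive where
  map_add {M N} φ ψ := by
    refine (cancel_mono ((kerι ρ).app N)).mp ?_
    rw [Preadditive.add_comp, kerF_map_ι, kerF_map_ι, kerF_map_ι,
      Functor.map_add, Preadditive.comp_add]

end Additive

section LeftExact

variable {C : Type u} [Category.{v} C] [Abelian C] {D : Type u'} [Category.{v'} D] [Abelian D]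
  {T₁ T₂ : C ⥤ D} [T₁.Additive] [T₂.Additive] (ρ : T₁ ⟶ T₂)

/-- the kernel of a natural transformation between left exact functors is left exact. -/
theorem preservesFiniteLimits_kerF [PreservesFiniteLimits T₁] [PreservesFiniteLimits T₂] :
    PreservesFiniteLimits (kerF ρ) := by
  refine ((kerF ρ).preservesFiniteLimits_tfae.out 1 3).mp ?_
  rintro S ⟨hS, hf⟩
  have h31 := (T₁.preservesFiniteLimits_tfae.out 3 1).mp (inferInstance : PreservesFiniteLimits T₁)
  obtain ⟨hT₁, hT₁m⟩ := h31 S ⟨hS, hf⟩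
  have hT₂m : Mono (T₂.map S.f) := inferInstance
  have hmono : Mono ((kerF ρ).map S.f) := by
    have : Mono ((kerF ρ).map S.f ≫ (kerι ρ).app S.X₂) := by
      rw [kerF_map_ι]
      infer_instance
    exact mono_of_mono _ ((kerι ρ).app S.X₂)
  refine ⟨?_, hmono⟩
  refine ShortComplex.exact_of_f_is_kernel _ ?_
  refine KernelFork.IsLimit.ofι' ((kerF ρ).map S.f) _ (fun {A} k hk => ?_)
  have hk' : k ≫ (kerF ρ).map S.g = 0 := hk
  have h1 : (k ≫ (kerι ρ).app S.X₂) ≫ (S.map T₁).g = 0 := by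
    change (k ≫ (kerι ρ).app S.X₂) ≫ T₁.map S.g = 0
    rw [Category.assoc, ← kerF_map_ι, ← Category.assoc, hk', zero_comp]
  haveI : Mono (S.map T₁).f := hT₁m
  let y : A ⟶ T₁.obj S.X₁ := hT₁.lift (k ≫ (kerι ρ).app S.X₂) h1
  have hy : y ≫ T₁.map S.f = k ≫ (kerι ρ).app S.X₂ := hT₁.lift_f _ _
  have h2 : y ≫ ρ.app S.X₁ = 0 := by
    rw [← cancel_mono (T₂.map S.f), Category.assoc, zero_comp, ← ρ.naturality, ← Category.assoc,
      hy, Category.assoc, kerι_app_ρ, comp_zero]
  refine ⟨kerLift ρ y h2, ?_⟩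
  rw [← cancel_mono ((kerι ρ).app S.X₂), Category.assoc, kerF_map_ι, kerLift_ι_assoc, hy]

end LeftExact

section LES

variable {C : Type u} [Category.{v} C] [Abelian C] [HasInjectiveResolutions C]
  {D : Type u'} [Category.{v'} D] [Abelian D]
  {T₁ T₂ : C ⥤ D} [T₁.Additive] [T₂.Additive] (ρ : T₁ ⟶ T₂)

/-- if `ρ_I` is epi for injective `I`, then `0 → kerF ρ → T₁ → T₂ → 0` is exact on injectives. -/
theorem exactOnInjectives (hepi : ∀ I : C, Injective I → Epi (ρ.app I)) :
    ExactOnInjectives (kerι ρ) ρ (kerι_ρ ρ) := by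
  intro I hI
  haveI := hepi I hI
  exact ShortComplex.ShortExact.mk'
    (ShortComplex.exact_of_f_is_kernel _ (kernelIsKernel (ρ.app I)))
    (inferInstanceAs (Mono (kernel.ι _))) (hepi I hI)

variable {G₁ G₂ G₃ : C ⥤ D} [G₁.Additive] [G₂.Additive] [G₃.Additive]
  {α : G₁ ⟶ G₂} {β : G₂ ⟶ G₃} {w : α ≫ β = 0} (h : ExactOnInjectives α β w)

lemma rightDerived_comp_zero (w : α ≫ β = 0) (X : C) (n : ℕ) :
    (NatTrans.rightDerived α n).app X ≫ (NatTrans.rightDerived β n).app X = 0 := by
  rw [← NatTrans.comp_app, ← NatTrans.rightDerived_comp, w]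
  have : NatTrans.rightDerived (0 : G₁ ⟶ G₃) n = 0 := by
    ext Y
    rw [InjectiveResolution.rightDerived_app_eq (0 : G₁ ⟶ G₃) (injectiveResolution Y) n]
    have : (NatTrans.mapHomologicalComplex (0 : G₁ ⟶ G₃) (ComplexShape.up ℕ)).app
        (injectiveResolution Y).cocomplex = 0 := by
      ext i
      rfl
    simp [this]
    rfl
  rw [this]
  rfl

include h in
/-- exactness of the long exact sequence at `RⁿG₂`. -/
lemma exact₂ (X : C) (n : ℕ) :
    (ShortComplex.mk _ _ (rightDerived_comp_zero w X n)).Exact :=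
  exact_transport _ _ _ _ ((injectiveResolution X).isoRightDerivedObj G₁ n)
    ((injectiveResolution X).isoRightDerivedObj G₂ n)
    ((injectiveResolution X).isoRightDerivedObj G₃ n)
    (rightDerived_app_comp_iso_hom X α _ n) (rightDerived_app_comp_iso_hom X β _ n) _
    ((sc_shortExact h (injectiveResolution X).cocomplex
      (injectiveResolution X).injective).homology_exact₂ n)

end LES

section Extension

variable {D : Type u'} [Category.{v'} D] [Abelian D]

/-- Five-term exact sequence `A → B → K → E → F`: `K` is an extension of `ker (E → F)` by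
`coker (A → B)`. -/
theorem prop_of_five_term (P : D → Prop)
    (hiso : ∀ {X Y : D}, (X ≅ Y) → P X → P Y)
    (hker : ∀ {X Y : D} (f : X ⟶ Y), P X → P Y → P (kernel f))
    (hcoker : ∀ {X Y : D} (f : X ⟶ Y), P X → P Y → P (cokernel f))
    (hext : ∀ S : ShortComplex D, S.ShortExact → P S.X₁ → P S.X₃ → P S.X₂)
    {A B K E F : D} (a : A ⟶ B) (d : B ⟶ K) (e : K ⟶ E) (b : E ⟶ F)
    (w₁ : a ≫ d = 0) (w₂ : d ≫ e = 0) (w₃ : e ≫ b = 0)
    (h₁ : (ShortComplex.mk a d w₁).Exact) (h₂ : (ShortComplex.mk d e w₂).Exact)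
    (h₃ : (ShortComplex.mk e b w₃).Exact)
    (hA : P A) (hB : P B) (hE : P E) (hF : P F) : P K := by
  -- `d' : B ⟶ ker e` is epi
  let d' : B ⟶ kernel e := kernel.lift e d w₂
  have hd' : Epi d' := (ShortComplex.exact_iff_epi_kernel_lift _).mp h₂
  -- `e' : K ⟶ ker b` is epi
  let e' : K ⟶ kernel b := kernel.lift b e w₃
  have he' : Epi e' := (ShortComplex.exact_iff_epi_kernel_lift _).mp h₃
  -- `coker a ≅ ker e`
  have w₁' : a ≫ d' = 0 := by
    rw [← cancel_mono (kernel.ι e), Category.assoc, kernel.lift_ι, zero_comp, w₁]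
  let c : cokernel a ⟶ kernel e := cokernel.desc a d' w₁'
  have hc1 : Mono c := by
    have hm : Mono (cokernel.desc a d w₁) :=
      (ShortComplex.exact_iff_mono_cokernel_desc _).mp h₁
    have : c ≫ kernel.ι e = cokernel.desc a d w₁ := by
      rw [← cancel_epi (cokernel.π a)]
      simp [c, d']
    have : Mono (c ≫ kernel.ι e) := by rw [this]; exact hm
    exact mono_of_mono c (kernel.ι e)
  have hc2 : Epi c := by
    have : cokernel.π a ≫ c = d' := cokernel.π_desc _ _ _
    have : Epi (cokernel.π a ≫ c) := by rw [this]; exact hd'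
    exact epi_of_epi (cokernel.π a) c
  haveI : IsIso c := isIso_of_mono_of_epi c
  have hK₁ : P (kernel e) := hiso (asIso c) (hcoker a hA hB)
  have hK₃ : P (kernel b) := hker b hE hF
  -- the short exact sequence `0 → ker e → K → ker b → 0`
  have we : kernel.ι e ≫ e' = 0 := by
    rw [← cancel_mono (kernel.ι b), Category.assoc, kernel.lift_ι, kernel.condition, zero_comp]
  have hS : (ShortComplex.mk (kernel.ι e) e' we).ShortExact := by
    refine ShortComplex.ShortExact.mk' ?_ (inferInstanceAs (Mono (kernel.ι e))) he'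
    refine ShortComplex.exact_of_f_is_kernel _ ?_
    refine KernelFork.IsLimit.ofι' (kernel.ι e) _ (fun {Z} k hk => ?_)
    have hk' : k ≫ e' = 0 := hk
    have : k ≫ e = 0 := by
      have := congrArg (fun t => t ≫ kernel.ι b) hk'
      simpa [e'] using this
    exact ⟨kernel.lift e k this, kernel.lift_ι _ _ _⟩
  exact hext _ hS hK₁ hK₃

end Extension

section Main

variable {C : Type u} [Category.{v} C] [Abelian C] [HasInjectiveResolutions C]
  {D : Type u'} [Category.{v'} D] [Abelian D]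
  {T₁ T₂ : C ⥤ D} [T₁.Additive] [T₂.Additive] (ρ : T₁ ⟶ T₂)

/-- **Right derived functors of a kernel functor**: a class of objects stable under isomorphisms,
kernels, cokernels and extensions which contains `RⁿT_k(X)` and `Rⁿ⁺¹T_k(X)` (`k = 1, 2`) contains
`Rⁿ⁺¹(kerF ρ)(X)`. -/
theorem prop_rightDerived_kerF_succ (hepi : ∀ I : C, Injective I → Epi (ρ.app I))
    (P : D → Prop)
    (hiso : ∀ {X Y : D}, (X ≅ Y) → P X → P Y)
    (hker : ∀ {X Y : D} (f : X ⟶ Y), P X → P Y → P (kernel f))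
    (hcoker : ∀ {X Y : D} (f : X ⟶ Y), P X → P Y → P (cokernel f))
    (hext : ∀ S : ShortComplex D, S.ShortExact → P S.X₁ → P S.X₃ → P S.X₂)
    (X : C) (n : ℕ)
    (h₁ : P ((T₁.rightDerived n).obj X)) (h₂ : P ((T₂.rightDerived n).obj X))
    (h₃ : P ((T₁.rightDerived (n + 1)).obj X)) (h₄ : P ((T₂.rightDerived (n + 1)).obj X)) :
    P (((kerF ρ).rightDerived (n + 1)).obj X) := by
  have hE := exactOnInjectives ρ hepi
  exact prop_of_five_term P hiso hker hcoker hext
    ((NatTrans.rightDerived ρ n).app X) ((δ hE n).app X)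
    ((NatTrans.rightDerived (kerι ρ) (n + 1)).app X) ((NatTrans.rightDerived ρ (n + 1)).app X)
    (comp_δ hE X n) (δ_comp hE X n) (rightDerived_comp_zero (kerι_ρ ρ) X (n + 1))
    (exact₃ hE X n) (exact₁ hE X n) (exact₂ hE X (n + 1)) h₁ h₂ h₃ h₄

end Main

end Groth.Agent.Lib.Helper56.KerFunctor
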