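import Groth.Agent.Lib.Helper56.LCQCoh
import Groth.Agent.Lib.Helper74.LCSheaf.Main
import Groth.Agent.Lib.Helper5.RDerExchange2
import Groth.Agent.Lib.Helper1.QcqsLoc.Flasque
import Groth.Agent.S6023

/-!
# Local cohomology sheaves with supports in a locally closed subset: modules versus abelian
sheaves (helper56)

`GM h ⋙ toAb ≅ toAb ⋙ sectSuppLC h`, injective modules are `sectSuppLC`-acyclic, hence
`toAb (R^n(GM h) M) ≅ ℋ^n_Z(toAb M)`; with `LCQCoh` this gives quasi-coherence of `ℋ^n_Z(F)`.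
-/

set_option autoImplicit false
set_option linter.style.haveILetI false
set_option linter.unusedSectionVars false
universe u
open CategoryTheory CategoryTheory.Limits AlgebraicGeometry Opposite TopologicalSpace

namespace Groth.Agent.Lib.Helper56.LCCompare

open Scheme.Modules Groth.Agent.Lib.Helper32.MVOpens Groth.Agent.Lib.Helper56.KerFunctor
  Groth.Agent.Lib.Helper56.LCQCoh Groth.Agent.Lib.Helper74.LCSheaf SuppFam LocCohZ

variable {Y : Scheme.{u}}

/-- the underlying abelian sheaf functor -/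
noncomputable abbrev E (Y : Scheme.{u}) : Y.Modules ⥤ CohTop.Ab Y.carrier :=
  SheafOfModules.toSheaf Y.ringCatSheaf

section Sections

/-- restriction of sections of a module, elementwise -/
noncomputable abbrev res (M : Y.Modules) {A B : Y.Opens} (i : A ≤ B) :
    ((E Y).obj M).obj.obj (op B) →+ ((E Y).obj M).obj.obj (op A) :=
  (((E Y).obj M).obj.map (homOfLE i).op).hom

lemma res_res (M : Y.Modules) {A B C : Y.Opens} (i : A ≤ B) (j : B ≤ C)
    (s : ((E Y).obj M).obj.obj (op C)) : res M i (res M j s) = res M (i.trans j) s := by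
  change (((E Y).obj M).obj.map (homOfLE j).op ≫ ((E Y).obj M).obj.map (homOfLE i).op).hom s = _
  rw [← ((E Y).obj M).obj.map_comp]
  rfl

lemma res_self (M : Y.Modules) {A : Y.Opens} (i : A ≤ A) (s : ((E Y).obj M).obj.obj (op A)) :
    res M i s = s := by
  have : (homOfLE i).op = 𝟙 (op A) := Subsingleton.elim _ _
  change (((E Y).obj M).obj.map (homOfLE i).op).hom s = s
  rw [this, ((E Y).obj M).obj.map_id]
  rfl

/-- a morphism of modules on sections -/
noncomputable abbrev ap {M N : Y.Modules} (φ : M ⟶ N) (A : Y.Opens) :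
    ((E Y).obj M).obj.obj (op A) →+ ((E Y).obj N).obj.obj (op A) :=
  (((E Y).map φ).hom.app (op A)).hom

lemma ap_comp {M N K : Y.Modules} (φ : M ⟶ N) (ψ : N ⟶ K) (A : Y.Opens)
    (s : ((E Y).obj M).obj.obj (op A)) : ap (φ ≫ ψ) A s = ap ψ A (ap φ A s) := rfl

lemma ap_zero {M N : Y.Modules} (A : Y.Opens)
    (s : ((E Y).obj M).obj.obj (op A)) : ap (0 : M ⟶ N) A s = 0 := rfl

lemma hom_res {M N : Y.Modules} (φ : M ⟶ N) {A B : Y.Opens} (i : A ≤ B)
    (s : ((E Y).obj M).obj.obj (op B)) : ap φ A (res M i s) = res N i (ap φ B s) := by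
  have := ((E Y).map φ).hom.naturality (homOfLE i).op
  exact ConcreteCategory.congr_hom this s

variable {V₂ V₁ : Y.Opens} (h : V₂ ≤ V₁)

include h in
lemma im_le (O : Y.Opens) : V₂.ι ''ᵁ (V₂.ι ⁻¹ᵁ O) ≤ V₁.ι ''ᵁ (V₁.ι ⁻¹ᵁ O) := by
  rw [image_preimage_eq, image_preimage_eq]
  exact inf_le_inf_right O h

/-- the restriction `ρ` on sections. -/
lemma ρ_app_apply (M : Y.Modules) (O : Y.Opens)
    (s : ((E Y).obj M).obj.obj (op (V₁.ι ''ᵁ (V₁.ι ⁻¹ᵁ O)))) :
    ap ((ρ V₁ V₂ h).app M) O s = res M (im_le h O) s := by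
  haveI := isIso_T_map_η V₁ V₂ h M
  have h1 : (ρ V₁ V₂ h).app M ≫ (T V₂).map ((η V₁).app M) = (η V₂).app ((T V₁).obj M) := by
    change ((η V₂).app ((T V₁).obj M) ≫ inv ((T V₂).map ((η V₁).app M))) ≫ _ = _
    rw [Category.assoc, IsIso.inv_hom_id, Category.comp_id]
  have h2 := congrArg (fun φ => ap φ O s) h1
  simp only [ap_comp] at h2
  -- the two outer maps are restriction maps of `M`
  have hA : V₁.ι ''ᵁ (V₁.ι ⁻¹ᵁ (V₂.ι ''ᵁ (V₂.ι ⁻¹ᵁ O))) ≤ V₂.ι ''ᵁ (V₂.ι ⁻¹ᵁ O) :=
    V₁.ι.image_preimage_le _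
  have hA' : V₂.ι ''ᵁ (V₂.ι ⁻¹ᵁ O) ≤ V₁.ι ''ᵁ (V₁.ι ⁻¹ᵁ (V₂.ι ''ᵁ (V₂.ι ⁻¹ᵁ O))) := by
    simp only [image_preimage_eq]
    exact le_inf (inf_le_left.trans h) le_rfl
  have hB : V₁.ι ''ᵁ (V₁.ι ⁻¹ᵁ (V₂.ι ''ᵁ (V₂.ι ⁻¹ᵁ O))) ≤ V₁.ι ''ᵁ (V₁.ι ⁻¹ᵁ O) := by
    simp only [image_preimage_eq]
    exact inf_le_inf_left _ inf_le_right
  have h3 : ap ((T V₂).map ((η V₁).app M)) O (ap ((ρ V₁ V₂ h).app M) O s) =
      res M hA (ap ((ρ V₁ V₂ h).app M) O s) := rfl
  have h4 : ap ((η V₂).app ((T V₁).obj M)) O s = res M hB s := rfl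
  have h5 : res M hA (ap ((ρ V₁ V₂ h).app M) O s) = res M hB s := by
    rw [← h3, ← h4]
    exact h2
  have h6 := congrArg (res M hA') h5
  rw [res_res, res_res, res_self] at h6
  exact h6

end Sections

section Alpha

variable {V₂ V₁ : Y.Opens} (h : V₂ ≤ V₁)

/-- sections over `V'` as a functor to abelian groups -/
noncomputable abbrev Φ (V' : Y.Opens) : Y.Modules ⥤ AddCommGrpCat.{u} :=
  Scheme.Modules.toPresheaf Y ⋙ (evaluation (Opens Y)ᵒᵖ AddCommGrpCat.{u}).obj (op V')

instance (V' : Y.Opens) : (Φ V').PreservesZeroMorphisms where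
  map_zero _ _ := rfl

instance (V' : Y.Opens) : PreservesFiniteLimits (Φ (Y := Y) V') := by
  have h1 : PreservesFiniteLimits (Scheme.Modules.toPresheaf Y) :=
    PreservesLimits.preservesFiniteLimits _
  have h2 : PreservesFiniteLimits ((evaluation (Opens Y)ᵒᵖ AddCommGrpCat.{u}).obj (op V')) :=
    ⟨fun J _ _ => inferInstance⟩
  exact comp_preservesFiniteLimits _ _

lemma Φ_map {M N : Y.Modules} (φ : M ⟶ N) (V' : Y.Opens) :
    (Φ V').map φ = ((E Y).map φ).hom.app (op V') := rfl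

/-- the inclusion of `Γ_Z(M)` into `j₁_* j₁^* M` on sections, with values in sections of `M`. -/
noncomputable def κ (M : Y.Modules) (V' : Y.Opens) :
    ((E Y).obj ((GM h).obj M)).obj.obj (op V') →+ ((E Y).obj M).obj.obj (op (V₁.ι ''ᵁ (V₁.ι ⁻¹ᵁ V'))) :=
  ap ((kerι (ρ V₁ V₂ h)).app M) V'

/-- the inclusion of `Γ_Z(M)` into `j₁_* j₁^* M` is injective on sections. -/
lemma κ_injective (M : Y.Modules) (V' : Y.Opens) : Function.Injective (κ h M V') := by
  have : Mono ((Φ V').map ((kerι (ρ V₁ V₂ h)).app M)) := inferInstance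
  rw [Φ_map] at this
  exact (AddCommGrpCat.mono_iff_injective _).mp this

lemma res_κ (M : Y.Modules) (V' : Y.Opens) (s : ((E Y).obj ((GM h).obj M)).obj.obj (op V')) :
    res M (im_le h V') (κ h M V' s) = 0 := by
  rw [← ρ_app_apply h]
  have := kerι_app_ρ (ρ V₁ V₂ h) M
  have h2 := congrArg (fun φ => ap φ V' s) this
  exact h2

/-- sections of `j₁_* j₁^* M` killed by `ρ` come from `Γ_Z(M)`. -/
lemma exists_κ_eq (M : Y.Modules) (V' : Y.Opens)
    (t : ((E Y).obj M).obj.obj (op (V₁.ι ''ᵁ (V₁.ι ⁻¹ᵁ V'))))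
    (ht : res M (im_le h V') t = 0) : ∃ s, κ h M V' s = t := by
  rw [← ρ_app_apply h] at ht
  let S : ShortComplex Y.Modules :=
    ShortComplex.mk ((kerι (ρ V₁ V₂ h)).app M) ((ρ V₁ V₂ h).app M) (kerι_app_ρ _ M)
  have hS : S.Exact := ShortComplex.exact_of_f_is_kernel _ (kernelIsKernel ((ρ V₁ V₂ h).app M))
  have hm : Mono S.f := inferInstanceAs (Mono ((kerι (ρ V₁ V₂ h)).app M))
  have hS' : (S.map (Φ V')).Exact :=
    hS.map_of_mono_of_preservesKernel (Φ V') hm inferInstance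
  exact (ShortComplex.ab_exact_iff _).mp hS' t ht

lemma κ_nat_V (M : Y.Modules) {A B : Y.Opens} (g : B ≤ A)
    (s : ((E Y).obj ((GM h).obj M)).obj.obj (op A)) :
    κ h M B (res ((GM h).obj M) g s) =
      res M (show V₁.ι ''ᵁ (V₁.ι ⁻¹ᵁ B) ≤ V₁.ι ''ᵁ (V₁.ι ⁻¹ᵁ A) by
        rw [image_preimage_eq, image_preimage_eq]; exact inf_le_inf_left V₁ g) (κ h M A s) :=
  hom_res ((kerι (ρ V₁ V₂ h)).app M) g s

lemma κ_nat_F {M N : Y.Modules} (φ : M ⟶ N) (V' : Y.Opens)
    (s : ((E Y).obj ((GM h).obj M)).obj.obj (op V')) :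
    κ h N V' (ap ((GM h).map φ) V' s) = ap φ (V₁.ι ''ᵁ (V₁.ι ⁻¹ᵁ V')) (κ h M V' s) := by
  have := kerF_map_ι (ρ V₁ V₂ h) φ
  have h2 := congrArg (fun ψ => ap ψ V' s) this
  exact h2

/-- the comparison map: a section of `Γ_Z(M)` over `V'` is a section of `M` over `V₁ ⊓ V'`. -/
noncomputable def α (M : Y.Modules) (V' : Y.Opens) :
    ((E Y).obj ((GM h).obj M)).obj.obj (op V') →+ ((E Y).obj M).obj.obj (op (V₁ ⊓ V')) :=
  (res M (image_preimage_eq V₁ V').ge).comp (κ h M V')

lemma α_apply (M : Y.Modules) (V' : Y.Opens) (s : ((E Y).obj ((GM h).obj M)).obj.obj (op V')) :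
    α h M V' s = res M (image_preimage_eq V₁ V').ge (κ h M V' s) :=
  rfl

lemma α_injective (M : Y.Modules) (V' : Y.Opens) : Function.Injective (α h M V') := by
  intro s s' hss
  rw [α_apply, α_apply] at hss
  apply κ_injective h M V'
  have := congrArg (res M (image_preimage_eq V₁ V').le) hss
  rw [res_res, res_res, res_self, res_self] at this
  exact this

lemma α_mem (M : Y.Modules) (V' : Y.Opens) (s : ((E Y).obj ((GM h).obj M)).obj.obj (op V')) :
    res M (inf_le_inf_right V' h) (α h M V' s) = 0 := by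
  have h0 := res_κ h M V' s
  rw [α_apply, res_res]
  have h1 := congrArg (res M (image_preimage_eq V₂ V').ge) h0
  rw [res_res, map_zero] at h1
  exact h1

lemma α_surjective (M : Y.Modules) (V' : Y.Opens) (t : ((E Y).obj M).obj.obj (op (V₁ ⊓ V')))
    (ht : res M (inf_le_inf_right V' h) t = 0) : ∃ s, α h M V' s = t := by
  obtain ⟨s, hs⟩ := exists_κ_eq h M V' (res M (image_preimage_eq V₁ V').le t) (by
    rw [res_res]
    have := congrArg (res M (image_preimage_eq V₂ V').le) ht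
    rw [res_res, map_zero] at this
    exact this)
  refine ⟨s, ?_⟩
  rw [α_apply, hs, res_res, res_self]

lemma α_nat_V (M : Y.Modules) {A B : Y.Opens} (g : B ≤ A)
    (s : ((E Y).obj ((GM h).obj M)).obj.obj (op A)) :
    α h M B (res ((GM h).obj M) g s) = res M (inf_le_inf_left V₁ g) (α h M A s) := by
  rw [α_apply, α_apply, κ_nat_V, res_res, res_res]

lemma α_nat_F {M N : Y.Modules} (φ : M ⟶ N) (V' : Y.Opens)
    (s : ((E Y).obj ((GM h).obj M)).obj.obj (op V')) :
    α h N V' (ap ((GM h).map φ) V' s) = ap φ (V₁ ⊓ V') (α h M V' s) := by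
  rw [α_apply, α_apply, hom_res, κ_nat_F]

end Alpha

section Iso

variable {V₂ V₁ : Y.Opens} (h : V₂ ≤ V₁)

/-- sections of `Γ_Z(M)` over `V'` are the sections of `M` over `V₁ ⊓ V'` vanishing on
`V₂ ⊓ V'`. -/
noncomputable def αEquiv (M : Y.Modules) (V' : Y.Opens) :
    ((E Y).obj ((GM h).obj M)).obj.obj (op V') ≃+
      sectZ (X := Y.carrier) ((E Y).obj M) (inf_le_inf_right V' h : V₂ ⊓ V' ≤ V₁ ⊓ V') :=
  AddEquiv.ofBijective ((α h M V').codRestrict (sectZ (X := Y.carrier) ((E Y).obj M) _)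
      (fun s => by
        rw [AddMonoidHom.mem_ker]
        exact α_mem h M V' s))
    ⟨fun s s' hss => α_injective h M V' (congrArg Subtype.val hss), fun ⟨t, ht⟩ => by
      rw [AddMonoidHom.mem_ker] at ht
      obtain ⟨s, hs⟩ := α_surjective h M V' t ht
      exact ⟨s, Subtype.ext hs⟩⟩

/-- sections of `Γ_Z(M)` over `V'` versus sections of `Γ_Z(toAb M)`. -/
noncomputable def c (M : Y.Modules) (V' : Y.Opens) :
    ((E Y).obj ((GM h).obj M)).obj.obj (op V') ≃+
      ((sectSuppLC (X := Y.carrier) h).obj ((E Y).obj M)).obj.obj (op V') :=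
  (αEquiv h M V').trans (aEquiv (X := Y.carrier) h ((E Y).obj M) V').symm

lemma a_c (M : Y.Modules) (V' : Y.Opens) (s : ((E Y).obj ((GM h).obj M)).obj.obj (op V')) :
    a (X := Y.carrier) h ((E Y).obj M) V' (c h M V' s) = α h M V' s := by
  have h1 : aEquiv (X := Y.carrier) h ((E Y).obj M) V' (c h M V' s) = αEquiv h M V' s := by
    simp [c]
  exact congrArg Subtype.val h1

/-- the comparison isomorphism of presheaves, for a fixed module. -/
noncomputable def isoApp (M : Y.Modules) :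
    ((E Y).obj ((GM h).obj M)).obj ≅ ((sectSuppLC (X := Y.carrier) h).obj ((E Y).obj M)).obj :=
  NatIso.ofComponents (fun V' => (c h M V'.unop).toAddCommGrpIso) (by
    intro A B g
    ext s
    apply a_injective (X := Y.carrier) h ((E Y).obj M) B.unop
    have hg : g = (homOfLE (leOfHom g.unop)).op := Subsingleton.elim _ _
    have e1 := a_nat_V (X := Y.carrier) h ((E Y).obj M) (leOfHom g.unop) (c h M A.unop s)
    have e2 := α_nat_V h M (leOfHom g.unop) s
    rw [a_c] at e1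
    have e3 := a_c h M B.unop (res ((GM h).obj M) (leOfHom g.unop) s)
    rw [e2] at e3
    rw [hg]
    exact e3.trans e1.symm)

/-- the comparison isomorphism, after forgetting to presheaves. -/
noncomputable def e₀pre :
    (GM h ⋙ E Y) ⋙ sheafToPresheaf (Opens.grothendieckTopology Y.carrier) AddCommGrpCat.{u} ≅
      (E Y ⋙ sectSuppLC (X := Y.carrier) h) ⋙
        sheafToPresheaf (Opens.grothendieckTopology Y.carrier) AddCommGrpCat.{u} :=
  NatIso.ofComponents (fun M => isoApp h M) (by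
    intro M N φ
    ext V' s
    apply a_injective (X := Y.carrier) h ((E Y).obj N) V'.unop
    have e1 := a_nat_F (X := Y.carrier) h ((E Y).map φ) V'.unop (c h M V'.unop s)
    have e2 := α_nat_F h φ V'.unop s
    rw [a_c] at e1
    have e3 := a_c h N V'.unop (ap ((GM h).map φ) V'.unop s)
    rw [e2] at e3
    exact e3.trans e1.symm)

/-- **Sections with supports in `V₁ ∖ V₂`: modules versus abelian sheaves.** -/
noncomputable def e₀ : GM h ⋙ E Y ≅ E Y ⋙ sectSuppLC (X := Y.carrier) h :=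
  ((fullyFaithfulSheafToPresheaf (Opens.grothendieckTopology Y.carrier)
    AddCommGrpCat.{u}).whiskeringRight Y.Modules).preimageIso (e₀pre h)

end Iso

section Main

variable {V₂ V₁ : Y.Opens} (h : V₂ ≤ V₁)

/-- injective `O_Y`-modules are flasque. -/
theorem isFlasque_of_injective (I : Y.Modules) [Injective I] :
    TopCat.Sheaf.IsFlasque ((E Y).obj I) where
  epi {U V} i := by
    rw [AddCommGrpCat.epi_iff_surjective]
    have hle : V.unop ≤ U.unop := leOfHom i.unop
    have hi : i = (homOfLE hle).op := Subsingleton.elim _ _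
    rw [hi]
    exact Groth.Agent.Lib.Helper1.QcqsLoc.rs_surjective_of_injective I hle

/-- injective `O_Y`-modules are acyclic for sections with supports in `V₁ ∖ V₂`. -/
theorem isZero_HZshLC_of_injective (I : Y.Modules) [Injective I] (n : ℕ) :
    IsZero ((HZshLC (X := Y.carrier) h (n + 1)).obj ((E Y).obj I)) := by
  haveI := isFlasque_of_injective I
  obtain ⟨e⟩ := nonempty_HZshLC_obj_iso (X := Y.carrier) h ((E Y).obj I) (n + 1)
  refine IsZero.of_iso ?_ e
  have hz : IsZero (HZpre (X := Y.carrier) ((E Y).obj I) (n + 1) h) := by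
    apply Functor.isZero
    intro V'
    have hs : Subsingleton (LocCohZ.HZ (X := Y.carrier) ((E Y).obj I) (n + 1)
        (inf_le_inf_right (unop V') h : V₂ ⊓ unop V' ≤ V₁ ⊓ unop V')) :=
      (Groth.Agent.S6023.result (X := Y.carrier) ((E Y).obj I)).1 _ _
        (inf_le_inf_right (unop V') h) (n + 1) (Nat.succ_pos n)
    exact @AddCommGrpCat.isZero_of_subsingleton
      (AddCommGrpCat.of (LocCohZ.HZ (X := Y.carrier) ((E Y).obj I) (n + 1)
        (inf_le_inf_right (unop V') h : V₂ ⊓ unop V' ≤ V₁ ⊓ unop V'))) hs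
  exact (presheafToSheaf (Opens.grothendieckTopology Y.carrier) AddCommGrpCat.{u}).map_isZero hz

/-- **Local cohomology sheaves with supports in a locally closed subset `Z = V₁ ∖ V₂` (with
`V₁, V₂ ⊆ Y` quasi-compact) of a quasi-coherent module are quasi-coherent.** -/
theorem exists_isQCoh_toAb_iso [QuasiCompact V₁.ι] [QuasiCompact V₂.ι]
    (F : Y.Modules) (hF : F.IsQuasicoherent) (i : ℕ) :
    ∃ M : Y.Modules, M.IsQuasicoherent ∧
      Nonempty ((E Y).obj M ≅ (HZshLC (X := Y.carrier) h i).obj ((E Y).obj F)) := by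
  have hEa : (E Y).Additive := inferInstanceAs (SheafOfModules.toSheaf Y.ringCatSheaf).Additive
  have hEl : PreservesFiniteLimits (E Y) :=
    inferInstanceAs (PreservesFiniteLimits (SheafOfModules.toSheaf Y.ringCatSheaf))
  have hEc : PreservesFiniteColimits (E Y) :=
    inferInstanceAs (PreservesFiniteColimits (SheafOfModules.toSheaf Y.ringCatSheaf))
  obtain ⟨e⟩ := Groth.Agent.Lib.Helper5.RDerExchange2.nonempty_rightDerived_exchange_iso₂
    (E Y) (E Y) (GM h) (sectSuppLC (X := Y.carrier) h) (e₀ h)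
    (fun I hI n => by
      haveI := hI
      exact isZero_HZshLC_of_injective h I n) i
  exact ⟨((GM h).rightDerived i).obj F, isQuasicoherent_rightDerived_GM h F hF i, ⟨e.app F⟩⟩

end Main

end Groth.Agent.Lib.Helper56.LCCompare
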