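import Groth.Agent.Lib.Helper56.KerFunctor
import Groth.Agent.Lib.Helper56.HZshQCoh
import Groth.Agent.S2384

/-!
# Local cohomology sheaves with supports in a locally closed subset are quasi-coherent:
module level (helper56)

For opens `V₂ ≤ V₁` of a scheme `Y` with quasi-compact inclusions, `GM h = ker (j₁_* j₁^* ⟶ j₂_* j₂^*)`
is the functor of sections with supports in `Z = V₁ ∖ V₂` on `O_Y`-modules, and its right derived
functors send quasi-coherent modules to quasi-coherent modules.
-/

set_option autoImplicit false
set_option linter.style.haveILetI false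
universe u
open CategoryTheory CategoryTheory.Limits AlgebraicGeometry Opposite TopologicalSpace

namespace Groth.Agent.Lib.Helper56.LCQCoh

open Scheme.Modules Groth.Agent.Lib.Helper33.FunctorLES Groth.Agent.Lib.Helper32.MVOpens
  Groth.Agent.Lib.Helper56.KerFunctor Groth.Agent.Lib.Helper56.HZshQCoh

variable {Y : Scheme.{u}}

instance preservesFiniteLimits_T' (W : Y.Opens) : PreservesFiniteLimits (T W) :=
  preservesFiniteLimits_T W.ι

theorem preservesFiniteLimits_restrict (W : Y.Opens) :
    PreservesFiniteLimits (restrictFunctor W.ι) := by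
  have : PreservesLimitsOfSize.{0, 0} (restrictFunctor W.ι) :=
    (CxOX.extZeroAdj W.ι).rightAdjoint_preservesLimits
  exact PreservesLimitsOfSize.preservesFiniteLimits _

theorem preservesFiniteColimits_restrict (W : Y.Opens) :
    PreservesFiniteColimits (restrictFunctor W.ι) := by
  have : PreservesColimitsOfSize.{0, 0} (restrictFunctor W.ι) :=
    (restrictAdjunction W.ι).leftAdjoint_preservesColimits
  exact PreservesColimitsOfSize.preservesFiniteColimits _

theorem preservesFiniteLimits_pushforward (W : Y.Opens) :
    PreservesFiniteLimits (pushforward W.ι) := by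
  have : PreservesLimitsOfSize.{0, 0} (pushforward W.ι) :=
    (restrictAdjunction W.ι).rightAdjoint_preservesLimits
  exact PreservesLimitsOfSize.preservesFiniteLimits _

/-- `j_* j^*` preserves injective objects. -/
theorem injective_T (W : Y.Opens) (I : Y.Modules) [Injective I] : Injective ((T W).obj I) := by
  haveI : (restrictFunctor W.ι).PreservesInjectiveObjects := preservesInjectiveObjects_restrict W
  haveI := preservesFiniteLimits_restrict W
  haveI : (restrictFunctor W.ι).PreservesMonomorphisms := inferInstance
  haveI : (pushforward W.ι).PreservesInjectiveObjects :=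
    Functor.preservesInjectiveObjects_of_adjunction_of_preservesMonomorphisms
      (restrictAdjunction W.ι)
  haveI : Injective ((restrictFunctor W.ι).obj I) := (restrictFunctor W.ι).injective_obj I
  exact (pushforward W.ι).injective_obj _

variable {V₂ V₁ : Y.Opens} (h : V₂ ≤ V₁)

/-- the restriction `j₁_* j₁^* I ⟶ j₂_* j₂^* I` is an epimorphism for injective `I`. -/
theorem epi_ρ_of_injective (I : Y.Modules) [Injective I] : Epi ((ρ V₁ V₂ h).app I) := by
  haveI := injective_T V₁ I
  haveI := isIso_T_map_η V₁ V₂ h I
  haveI : Epi ((η V₂).app ((T V₁).obj I)) :=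
    Groth.Agent.Lib.Helper32.ExtZeroMono.epi_η_of_injective V₂ ((T V₁).obj I)
  change Epi ((η V₂).app ((T V₁).obj I) ≫ inv ((T V₂).map ((η V₁).app I)))
  infer_instance

/-- sections with supports in the locally closed subset `V₁ ∖ V₂`, on `O_Y`-modules. -/
noncomputable abbrev GM : Y.Modules ⥤ Y.Modules := kerF (ρ V₁ V₂ h)

instance preservesFiniteLimits_GM : PreservesFiniteLimits (GM h) :=
  preservesFiniteLimits_kerF (ρ V₁ V₂ h)

/-- `R^n(j_* j^*)` of a quasi-coherent module is quasi-coherent (`j` quasi-compact open immersion). -/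
theorem isQuasicoherent_rightDerived_T (W : Y.Opens) [QuasiCompact W.ι]
    (M : Y.Modules) (hM : M.IsQuasicoherent) (n : ℕ) :
    (((T W).rightDerived n).obj M).IsQuasicoherent := by
  haveI := hM
  haveI : (restrictFunctor W.ι).PreservesInjectiveObjects := preservesInjectiveObjects_restrict W
  haveI := preservesFiniteLimits_restrict W
  haveI := preservesFiniteColimits_restrict W
  haveI := preservesFiniteLimits_pushforward W
  obtain ⟨e2⟩ := Groth.Agent.Lib.Helper33.ExtDelta.nonempty_rightDerived_exact_comp_iso
    (restrictFunctor W.ι) (pushforward W.ι) n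
  haveI : Coh.IsQCoh ((restrictFunctor W.ι).obj M) :=
    Scheme.Modules.isQuasicoherent_restrictFunctor _ _
  have hR : Coh.IsQCoh ((Coh.Rpush W.ι n).obj ((restrictFunctor W.ι).obj M)) :=
    Groth.Agent.S0030.result W.ι ((restrictFunctor W.ι).obj M) n
  exact Groth.Agent.Lib.Helper49.isQuasicoherent_of_iso (e2.app M).symm hR

/-- **`R^n Γ_Z` of a quasi-coherent module is quasi-coherent**, `Z = V₁ ∖ V₂` locally closed with
quasi-compact `V₁, V₂ ⊆ Y`. -/
theorem isQuasicoherent_rightDerived_GM [QuasiCompact V₁.ι] [QuasiCompact V₂.ι]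
    (M : Y.Modules) (hM : M.IsQuasicoherent) (n : ℕ) :
    (((GM h).rightDerived n).obj M).IsQuasicoherent := by
  haveI := hM
  match n with
  | 0 =>
    have e : ((GM h).rightDerived 0).obj M ≅ (GM h).obj M :=
      (GM h).rightDerivedZeroIsoSelf.app M
    have h1 : ((T V₁).obj M).IsQuasicoherent :=
      Groth.Agent.Lib.Helper49.isQuasicoherent_pushforward _ V₁.ι
    have h2 : ((T V₂).obj M).IsQuasicoherent :=
      Groth.Agent.Lib.Helper49.isQuasicoherent_pushforward _ V₂.ι
    have hk : ((GM h).obj M).IsQuasicoherent :=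
      Groth.Agent.Lib.Helper49.isQuasicoherent_kernel ((ρ V₁ V₂ h).app M) h1 h2
    exact Groth.Agent.Lib.Helper49.isQuasicoherent_of_iso e.symm hk
  | n + 1 =>
    exact prop_rightDerived_kerF_succ (ρ V₁ V₂ h)
      (fun I hI => by haveI := hI; exact epi_ρ_of_injective h I)
      (fun N : Y.Modules => N.IsQuasicoherent)
      (fun e hX => Groth.Agent.Lib.Helper49.isQuasicoherent_of_iso e hX)
      (fun f hX hY => Groth.Agent.Lib.Helper49.isQuasicoherent_kernel f hX hY)
      (fun f hX hY => Groth.Agent.Lib.Helper49.isQuasicoherent_cokernel f hX hY)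
      (fun S hS h1 h3 => Groth.Agent.S2384.result S hS h1 h3)
      M n
      (isQuasicoherent_rightDerived_T V₁ M hM n) (isQuasicoherent_rightDerived_T V₂ M hM n)
      (isQuasicoherent_rightDerived_T V₁ M hM (n + 1))
      (isQuasicoherent_rightDerived_T V₂ M hM (n + 1))

end Groth.Agent.Lib.Helper56.LCQCoh
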