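import Groth.Agent.Lib.Helper33.Excision
import Groth.Agent.Lib.Helper5.ExtByZero

/-!
# Excision for cohomology with supports along an arbitrary open embedding (helper56)

For an open embedding `j : S ⟶ X` of topological spaces, the naive restriction functor
`E = hj.sheafPullback : Ab X ⥤ Ab S` (`(E F)(D) = F(j D)`) is exact, and
`Ext^i_X(ℤ_V/ℤ_W, F) ≅ Ext^i_S(ℤ_S/ℤ_{W'}, E F)` as functors of `F`, when `V = j(S)` and
`W = j(W')`.  This generalises `Helper33.LocCohSS.nonempty_extFunctor_restr_iso` from the inclusion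
of an open subspace to an arbitrary open embedding (e.g. `Spec Γ(X, V) ⟶ X` for an affine open
`V` of a scheme).
-/

set_option autoImplicit false

universe u

open CategoryTheory CategoryTheory.Limits TopologicalSpace Opposite Abelian

namespace Groth.Agent.Lib.Helper56.OpenEmbExcision

open LocCohZ Groth.Agent.Lib.Helper96 Groth.Agent.S19245 Groth.Agent.Lib.Helper33.LocCohSS

variable {S X : TopCat.{u}} {j : S ⟶ X} (hj : Topology.IsOpenEmbedding j)

/-- the image functor `Opens S ⥤ Opens X` -/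
abbrev G : Opens S ⥤ Opens X := hj.isOpenMap.functor

instance : (G hj).IsContinuous (Opens.grothendieckTopology S) (Opens.grothendieckTopology X) :=
  hj.functor_isContinuous

instance : (G hj).IsCocontinuous (Opens.grothendieckTopology S) (Opens.grothendieckTopology X) :=
  (hj.isOpenMap.adjunction.isCocontinuous_iff_coverPreserving
    (J := Opens.grothendieckTopology S) (K := Opens.grothendieckTopology X)).2
    (coverPreserving_opens_map _)

/-- naive restriction of abelian sheaves along an open embedding -/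
noncomputable abbrev E : CohTop.Ab X ⥤ CohTop.Ab S :=
  (G hj).sheafPushforwardContinuous AddCommGrpCat.{u} _ _

instance : PreservesColimitsOfSize.{u, u} (E hj) :=
  (Functor.sheafAdjunctionCocontinuous (G hj) AddCommGrpCat.{u} _ _).leftAdjoint_preservesColimits

instance : PreservesLimitsOfSize.{u, u} (E hj) :=
  (Functor.sheafPullbackConstruction.sheafAdjunctionContinuous (G hj) AddCommGrpCat.{u} _ _).rightAdjoint_preservesLimits

instance : (E hj).Additive where

instance : PreservesFiniteLimits (E hj) := inferInstance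
instance : PreservesFiniteColimits (E hj) := inferInstance

variable {W V : Opens X} (h : W ≤ V) {W' : Opens S} (hW : (G hj).obj W' = W)
  (hV : (G hj).obj ⊤ = V)

/-- `Hom_X(ℤ_V/ℤ_W, F) ≃ Hom_S(ℤ_S/ℤ_{W'}, E F)` -/
noncomputable def homZqEEquiv (F : CohTop.Ab X) :
    (zq h ⟶ F) ≃+ (zq (le_top : W' ≤ ⊤) ⟶ (E hj).obj F) :=
  (homZqEquiv F h).trans
    ((sectZCongr F h ((G hj).monotone (le_top : W' ≤ ⊤)) hW.symm hV.symm).trans
      (homZqEquiv ((E hj).obj F) (le_top : W' ≤ ⊤)).symm)

lemma homZqEEquiv_coe (F : CohTop.Ab X) (ψ : zq h ⟶ F) :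
    (homZqEquiv ((E hj).obj F) (le_top : W' ≤ ⊤) (homZqEEquiv hj h hW hV F ψ)).1 =
      TowerLim.res F (hV.symm ▸ le_rfl : (G hj).obj ⊤ ≤ V) (homZqEquiv F h ψ).1 :=
  congrArg Subtype.val ((homZqEquiv ((E hj).obj F) (le_top : W' ≤ ⊤)).apply_symm_apply _)

lemma homZqEEquiv_naturality {F F' : CohTop.Ab X} (g : F ⟶ F') (ψ : zq h ⟶ F) :
    homZqEEquiv hj h hW hV F' (ψ ≫ g) = homZqEEquiv hj h hW hV F ψ ≫ (E hj).map g := by
  apply (homZqEquiv ((E hj).obj F') (le_top : W' ≤ ⊤)).injective
  apply Subtype.ext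
  refine (homZqEEquiv_coe hj h hW hV F' _).trans ?_
  refine Eq.trans ?_ (homZqEquiv_comp_coe (le_top : W' ≤ ⊤) _ ((E hj).map g)).symm
  rw [homZqEquiv_comp_coe h ψ g, TowerLim.res_naturality]
  exact congrArg (fun x => (TowerLim.Γ ((G hj).obj ⊤)).map g x)
    (homZqEEquiv_coe hj h hW hV F ψ).symm

/-- `Hom_X(ℤ_V/ℤ_W, -) ≅ Hom_S(ℤ_S/ℤ_{W'}, E -)` -/
noncomputable def eCoyonedaIso :
    preadditiveCoyoneda.obj (op (zq h)) ≅
      E hj ⋙ preadditiveCoyoneda.obj (op (zq (le_top : W' ≤ ⊤))) :=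
  NatIso.ofComponents (fun F => (homZqEEquiv hj h hW hV F).toAddCommGrpIso) (by
    intro F F' g
    ext ψ
    exact homZqEEquiv_naturality hj h hW hV g ψ)

instance isFlasque_E (Q : CohTop.Ab X) [TopCat.Sheaf.IsFlasque Q] :
    TopCat.Sheaf.IsFlasque ((E hj).obj Q) where
  epi {U V} i := by
    change Epi (Q.obj.map ((G hj).op.map i))
    infer_instance

include hW hV in
open Groth.Agent.Lib.Helper33 Groth.Agent.Lib.Helper33.ExtDelta DeltaF in
/-- **Excision along an open embedding, as an isomorphism of functors.** -/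
theorem nonempty_extFunctor_E_iso (i : ℕ) :
    Nonempty ((extFunctor.{u} i).obj (op (zq h)) ≅
      E hj ⋙ (extFunctor.{u} i).obj (op (zq (le_top : W' ≤ ⊤)))) := by
  have : EnoughInjectives (CohTop.Ab X) := ExtRD.enoughInjectives
  have : EnoughInjectives (CohTop.Ab S) := ExtRD.enoughInjectives
  have hT' : (precompDelta (E hj)
      (extDelta.{u} (zq (le_top : W' ≤ ⊤)))).IsUniversal := by
    apply Groth.Agent.S6773.result
    rw [Groth.Agent.S14349.result]
    intro n I hI
    have h1 : TopCat.Sheaf.IsFlasque I := Groth.Agent.S0454.result I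
    have : Subsingleton (Ext.{u} (zq (le_top : W' ≤ ⊤)) ((E hj).obj I) (n + 1)) :=
      subsingleton_HZ_of_isFlasque ((E hj).obj I) (le_top : W' ≤ ⊤) (n + 1) (Nat.succ_pos n)
    exact AddCommGrpCat.isZero_of_subsingleton (AddCommGrpCat.of
      (Ext.{u} (zq (le_top : W' ≤ ⊤)) ((E hj).obj I) (n + 1)))
  exact nonempty_iso_of_isUniversal (extDelta.{u} (zq h)) _ (extDelta_isUniversal _) hT'
    ((coyonedaIsoExtZero (zq h)).symm ≪≫ eCoyonedaIso hj h hW hV ≪≫
      Functor.isoWhiskerLeft _ (coyonedaIsoExtZero _)) i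

include hW hV in
/-- the components, as additive equivalences -/
theorem nonempty_HZ_addEquiv_HZc_E (F : CohTop.Ab X) (i : ℕ) :
    Nonempty (HZ F i h ≃+ HZc ((E hj).obj F) i W') := by
  obtain ⟨α⟩ := nonempty_extFunctor_E_iso hj h hW hV i
  exact ⟨(α.app F).addCommGroupIsoToAddEquiv⟩

end Groth.Agent.Lib.Helper56.OpenEmbExcision
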