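import Groth.Prelude.Def_Coh
import Groth.Agent.Lib.Helper18.FPColim
import Groth.Agent.Lib.Helper4.ColimCohQS
import Groth.Agent.Lib.Helper1.ShCohTop
import Groth.Agent.Lib.Helper30.ModSAFT
import Groth.Agent.Lib.Helper80.RefExtend

/-!
# Vanishing of quasi-coherent cohomology from coherent cohomology (helper56)

On a Noetherian scheme every quasi-coherent module is a filtered colimit of finitely presented
ones (helper18) and cohomology commutes with filtered colimits (helper4), so vanishing of `H^i` on
coherent modules implies vanishing on quasi-coherent ones.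
-/

set_option autoImplicit false
set_option linter.style.haveILetI false
universe u
open CategoryTheory CategoryTheory.Limits AlgebraicGeometry Opposite TopologicalSpace

namespace Groth.Agent.Lib.Helper56.QCohVanish

/-- A colimit of zero objects is zero. -/
theorem isZero_of_isColimit {C J : Type*} [Category C] [Category J] [HasZeroMorphisms C]
    {D : J ⥤ C} {c : Cocone D} (hc : IsColimit c) (h : ∀ j, IsZero (D.obj j)) : IsZero c.pt := by
  rw [IsZero.iff_id_eq_zero]
  refine hc.hom_ext fun j => ?_
  exact (h j).eq_of_src _ _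

theorem subsingleton_HH_of_colimit (X : Scheme.{u}) [IsNoetherian X] (i : ℕ)
    {J : Type u} [SmallCategory J] [IsFiltered J] (D : J ⥤ X.Modules) (c : Cocone D)
    (hc : IsColimit c) (h : ∀ j, Subsingleton (Coh.HH X (D.obj j) i)) :
    Subsingleton (Coh.HH X c.pt i) := by
  haveI : PrespectralSpace X.toTopCat := inferInstanceAs (PrespectralSpace X)
  let T := SheafOfModules.toSheaf.{u} X.ringCatSheaf
  let Hq := (Sheaf.cohomologyPresheafFunctor (Opens.grothendieckTopology X.toTopCat) i).flip.obj
    (op (⊤ : Opens X.toTopCat))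
  have h1 : IsColimit (T.mapCocone c) := isColimitOfPreserves T hc
  have hP : PreservesColimit (D ⋙ T) Hq :=
    Groth.Agent.Lib.Helper4.ColimCohQS.preservesColimit_cohomology_of_isQuasiSeparated
      (X := X.toTopCat) ⊤ (by
        have : QuasiSeparatedSpace X := inferInstance
        exact (isQuasiSeparated_univ_iff.mpr this)) ⊤ (by
        have : CompactSpace X := inferInstance
        exact (isCompact_univ (X := X))) le_rfl i J (D ⋙ T)
  have h2 : IsColimit (Hq.mapCocone (T.mapCocone c)) :=
    (hP.preserves h1).some
  have h3 : IsZero (Hq.mapCocone (T.mapCocone c)).pt := by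
    refine isZero_of_isColimit h2 fun j => ?_
    have e := Groth.Agent.Lib.Helper1.HUTopEquivH (X := X.toTopCat) (T.obj (D.obj j)) i
    have hs : Subsingleton (CohTop.HU (T.obj (D.obj j)) i ⊤) :=
      e.toEquiv.subsingleton_congr.mpr (h j)
    exact @AddCommGrpCat.isZero_of_subsingleton _ hs
  have e := Groth.Agent.Lib.Helper1.HUTopEquivH (X := X.toTopCat) (T.obj c.pt) i
  have hs : Subsingleton (CohTop.HU (T.obj c.pt) i ⊤) := AddCommGrpCat.subsingleton_of_isZero h3
  exact e.symm.toEquiv.subsingleton_congr.mpr hs

/-- On a Noetherian scheme, if `H^i` vanishes on all coherent modules, it vanishes on all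
quasi-coherent modules. -/
theorem subsingleton_HH_of_qcoh (X : Scheme.{u}) [IsNoetherian X] (i : ℕ)
    (h : ∀ F : X.Modules, Coh.IsCoh F → Subsingleton (Coh.HH X F i))
    (G : X.Modules) (hG : Coh.IsQCoh G) : Subsingleton (Coh.HH X G i) := by
  haveI : G.IsQuasicoherent := hG
  obtain ⟨J, _, hdir, hne, D, c, ⟨hc⟩, rfl, hfp⟩ :=
    Groth.Agent.Lib.Helper18.FPM.exists_filtered_fp_colimit G
  haveI : IsFiltered J := isFiltered_of_directed_le_nonempty J
  exact subsingleton_HH_of_colimit X i D c hc fun j =>
    h _ (Groth.Agent.Lib.Helper80.RefExtend.isCoh_of_isFinitePresentation _ (hfp j))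

end Groth.Agent.Lib.Helper56.QCohVanish
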